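import Groth.Agent.BGaSLib.Bundle
import Groth.Prelude.Def_ThetaS

/-!
The non-extendable functor `ST_R ∖ 0 ⟶ B G_a`.
-/

set_option autoImplicit false
set_option backward.isDefEq.respectTransparency false
set_option backward.isDefEq.respectTransparency.types false
set_option linter.style.haveILetI false
universe u

open CategoryTheory CategoryTheory.Limits MonoidalCategory CartesianMonoidalCategory MonObj AlgebraicGeometry Opposite

noncomputable section

namespace Groth.Agent.BGaSLib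

open GaPoints (ringMap)
open ThetaS

/-- Saturated opens descend along a locally trivial morphism. -/
theorem exists_descend {T P : Scheme.{u}} (q : P ⟶ T)
    (hl : NonAbH1.IsLocallyTrivialFor Scheme.fppfPrecoverage (Over.mk q : Over T)) (V : P.Opens)
    (sat : ∀ a b : P, q a = q b → a ∈ V → b ∈ V) : ∃ U : T.Opens, ∀ a : P, q a ∈ U ↔ a ∈ V := by
  obtain ⟨Q, hQ, hsec⟩ := hl
  obtain ⟨I, Y, f, rfl⟩ := Q.exists_eq_ofArrows
  obtain ⟨hsurj, hf⟩ :=
    (Scheme.ofArrows_mem_precoverage_iff (P := @Flat ⊓ @LocallyOfFinitePresentation)).mp hQ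
  choose s hs using fun i => hsec _ (Presieve.ofArrows.mk i)
  replace hs : ∀ i, s i ≫ q = f i := hs
  have hopen : ∀ i, IsOpenMap (f i) := fun i => by
    haveI := (hf i).1
    haveI := (hf i).2
    exact (f i).isOpenMap
  refine ⟨⟨⋃ i, (f i) '' ((s i) ⁻¹ᵁ V : (Y i).Opens),
    isOpen_iUnion fun i => hopen i _ ((s i) ⁻¹ᵁ V).isOpen⟩, fun a => ⟨fun ha => ?_, fun ha => ?_⟩⟩
  · obtain ⟨i, y, hy, he⟩ := Set.mem_iUnion.mp ha
    exact sat (s i y) a (by rw [← he, ← hs i]; rfl) hy
  · obtain ⟨i, y, he⟩ := hsurj (q a)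
    exact Set.mem_iUnion.mpr ⟨i, y, sat a (s i y) (by rw [← he, ← hs i]; rfl) ha, he⟩

theorem surjective_of_locallyTrivial {T P : Scheme.{u}} (q : P ⟶ T)
    (hl : NonAbH1.IsLocallyTrivialFor Scheme.fppfPrecoverage (Over.mk q : Over T)) (x : T) : ∃ a, q a = x := by
  obtain ⟨Q, hQ, hsec⟩ := hl
  obtain ⟨I, Y, f, rfl⟩ := Q.exists_eq_ofArrows
  obtain ⟨hsurj, -⟩ := (Scheme.ofArrows_mem_precoverage_iff (P := @Flat ⊓ @LocallyOfFinitePresentation)).mp hQ
  obtain ⟨i, y, rfl⟩ := hsurj x
  obtain ⟨s, hs⟩ := hsec _ (Presieve.ofArrows.mk i)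
  replace hs : s ≫ q = f i := hs
  exact ⟨s y, by rw [← hs]; rfl⟩

variable {R : Type u} [CommRing R] {π : R}

theorem exists_pt {B K : Type u} [CommRing B] [CommRing K] [Algebra R B] [Algebra R K]
    (n : CoactBr.sp R K ⟶ CoactBr.sp R B) : ∃ ψ : B →ₐ[R] K, CoactBr.pt ψ = n := by
  have hw : n.left ≫ Spec.map (CommRingCat.ofHom (algebraMap R B)) =
      Spec.map (CommRingCat.ofHom (algebraMap R K)) := Over.w n
  obtain ⟨φ, hφ⟩ : ∃ φ : CommRingCat.of B ⟶ CommRingCat.of K, Spec.map φ = n.left := ⟨_, Spec.map_preimage _⟩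
  rw [← hφ, ← Spec.map_comp] at hw
  have hw' := Spec.map_injective hw
  refine ⟨{ φ.hom with commutes' := fun r => ?_ }, Over.OverMorphism.ext ?_⟩
  · exact congrArg (fun m => m.hom r) hw'
  · rw [CoactBr.pt_left, ← hφ]; rfl

/-- The locus where a function on `Spec R[s,t]/(st - π)` is invertible. -/
abbrev DSt (q : STRing R π) : (STSch R π).left.Opens := (STSch R π).left.basicOpen (stFn q)

theorem mem_DSt {K : Type u} [Field K] [Algebra R K] (ψ : STRing R π →ₐ[R] K) (q : STRing R π) (z : (CoactBr.sp R K).left) :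
    (CoactBr.pt ψ).left z ∈ DSt q ↔ ψ q ≠ 0 := by
  have h : DSt q = PrimeSpectrum.basicOpen q := basicOpen_eq_of_affine (R := CommRingCat.of (STRing R π)) q
  rw [h, CoactBr.pt_left]
  change q ∉ Ideal.comap ψ.toRingHom (PrimeSpectrum.asIdeal z) ↔ _
  rw [show PrimeSpectrum.asIdeal z = ⊥ from (Ideal.eq_bot_or_top _).resolve_right z.isPrime.ne_top, Ideal.mem_comap,
    Submodule.mem_bot]
  rfl

theorem act_mem_iff (z : (Gm R ⊗ STSch R π).left) :
    ((stAction R π).act.left z ∈ DSt (sFn R π) ↔ (snd (Gm R) (STSch R π)).left z ∈ DSt (sFn R π)) ∧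
    ((stAction R π).act.left z ∈ DSt (tFn R π) ↔ (snd (Gm R) (STSch R π)).left z ∈ DSt (tFn R π)) := by
  let zK := (Gm R ⊗ STSch R π).left.fromSpecResidueField z
  let K : Type u := (Gm R ⊗ STSch R π).left.residueField z
  obtain ⟨ρ, hρ⟩ : ∃ ρ : CommRingCat.of R ⟶ CommRingCat.of K, Spec.map ρ = zK ≫ (Gm R ⊗ STSch R π).hom :=
    ⟨_, Spec.map_preimage _⟩
  letI : Algebra R K := ρ.hom.toAlgebra
  let m : CoactBr.sp R K ⟶ Gm R ⊗ STSch R π := Over.homMk zK hρ.symm
  obtain ⟨lam, hlam⟩ := exists_pt (B := Lau R) (m ≫ fst _ _)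
  obtain ⟨ψ, hψ⟩ := exists_pt (B := STRing R π) (m ≫ snd _ _)
  obtain ⟨a, b, hab, rfl⟩ : ∃ a b hab, ψ = stPt (π := π) a b hab :=
    ⟨ψ (sFn R π), ψ (tFn R π), by rw [← map_mul, sFn_mul_tFn, AlgHom.commutes],
      stRing_algHom_ext (by simp) (by simp)⟩
  have e := stAction_pt lam a b hab
  have hm : CartesianMonoidalCategory.lift (CoactBr.pt lam) (CoactBr.pt (stPt a b hab)) = m := by
    rw [hlam, hψ, ← comp_lift, lift_fst_snd, Category.comp_id]
  rw [hm] at e
  let c : (CoactBr.sp R K).left := IsLocalRing.closedPoint K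
  have hc : m.left c = z := (Gm R ⊗ STSch R π).left.fromSpecResidueField_apply z c
  have hu : lam (zPow R 1) * lam (zPow R (-1)) = 1 := by
    rw [← map_mul, zPow_mul, show (1 : ℤ) + -1 = 0 by norm_num, zPow_zero, map_one]
  have h₁ : (stAction R π).act.left z = (m ≫ (stAction R π).act).left c := congrArg (stAction R π).act.left hc.symm
  have h₂ : (snd (Gm R) (STSch R π)).left z = (m ≫ snd (Gm R) (STSch R π)).left c := congrArg (snd (Gm R) (STSch R π)).left hc.symm
  rw [h₁, h₂, e, ← hψ, mem_DSt, mem_DSt, mem_DSt, mem_DSt, stPt_sFn, stPt_tFn, stPt_sFn, stPt_tFn]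
  exact ⟨mul_ne_zero_iff.trans (and_iff_right (left_ne_zero_of_mul_eq_one hu)),
    mul_ne_zero_iff.trans (and_iff_right (right_ne_zero_of_mul_eq_one hu))⟩

variable (π) in
/-- The two branches. -/
abbrev branch (i : Bool) : STRing R π := if i then sFn R π else tFn R π

/-- Objects of the quotient stack. -/
abbrev Obj (R : Type u) [CommRing R] (π : R) : Type (u + 1) := (STR Scheme.fppfPrecoverage R π).obj

theorem saturated (A : Obj R π) (i : Bool) (a b : A.P.left) (h : A.π.left a = A.π.left b)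
    (ha : A.φ.left a ∈ DSt (branch π i)) : A.φ.left b ∈ DSt (branch π i) := by
  obtain ⟨z, hz₁, hz₂⟩ := Scheme.exists_preimage_of_isPullback (A.cart.map (Over.forget _)) a b h
  replace hz₁ : A.act.act.left z = a := hz₁
  replace hz₂ : (snd (Gm R) A.P).left z = b := hz₂
  have e₁ : A.φ.left a = (stAction R π).act.left ((Gm R ◁ A.φ).left z) := by
    rw [← hz₁]
    exact congrArg (fun m : Gm R ⊗ A.P ⟶ STSch R π => m.left z) A.eqv
  have e₂ : A.φ.left b = (snd (Gm R) (STSch R π)).left ((Gm R ◁ A.φ).left z) := by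
    rw [← hz₂]
    exact (congrArg (fun m : Gm R ⊗ A.P ⟶ STSch R π => m.left z) (whiskerLeft_snd (Gm R) A.φ)).symm
  obtain ⟨hs, ht⟩ := act_mem_iff ((Gm R ◁ A.φ).left z)
  rw [e₁] at ha
  rw [e₂]
  cases i
  · exact ht.mp ha
  · exact hs.mp ha

theorem exists_branchOpen (A : Obj R π) (i : Bool) :
    ∃ U : A.base.left.Opens, ∀ a : A.P.left, A.π.left a ∈ U ↔ A.φ.left a ∈ DSt (branch π i) :=
  exists_descend A.π.left A.loc (A.φ.left ⁻¹ᵁ DSt (branch π i)) fun a b h ha => saturated A i a b h ha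

/-- The open of the base over a branch. -/
def branchOpen (A : Obj R π) (i : Bool) : A.base.left.Opens := (exists_branchOpen A i).choose

theorem mem_branchOpen (A : Obj R π) (i : Bool) (a : A.P.left) :
    A.π.left a ∈ branchOpen A i ↔ A.φ.left a ∈ DSt (branch π i) := (exists_branchOpen A i).choose_spec a

theorem pt_surjective (A : Obj R π) (x : A.base.left) : ∃ a, A.π.left a = x :=
  surjective_of_locallyTrivial A.π.left A.loc x

theorem missesNode_iff (A : Obj R π) :
    MissesNode A ↔ ∀ a : A.P.left, A.φ.left a ∈ DSt (sFn R π) ∨ A.φ.left a ∈ DSt (tFn R π) := by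
  rw [MissesNode, ← Scheme.preimage_basicOpen_top, ← Scheme.preimage_basicOpen_top]
  constructor
  · intro h a
    exact (h ▸ trivial : a ∈ A.φ.left ⁻¹ᵁ DSt (sFn R π) ⊔ A.φ.left ⁻¹ᵁ DSt (tFn R π))
  · exact fun h => top_le_iff.mp fun a _ => h a

theorem branch_inter (A : Obj R π) (x : A.base.left) :
    (x ∈ branchOpen A true ∧ x ∈ branchOpen A false) ↔ ev A.base.left x (ringMap A.base.hom π) ≠ 0 := by
  obtain ⟨a, rfl⟩ := pt_surjective A x
  rw [mem_branchOpen, mem_branchOpen]
  change a ∈ A.φ.left ⁻¹ᵁ DSt (sFn R π) ∧ a ∈ A.φ.left ⁻¹ᵁ DSt (tFn R π) ↔ _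
  rw [Scheme.preimage_basicOpen_top, Scheme.preimage_basicOpen_top, ← ev_ne_zero_iff, ← ev_ne_zero_iff,
    ← mul_ne_zero_iff, ← map_mul, ← ev_appTop_ne_zero_iff, ← map_mul]
  have h₁ : A.φ.left.appTop (stFn (sFn R π) * stFn (tFn R π)) =
      ringMap (A.φ.left ≫ Spec.map (CommRingCat.ofHom (algebraMap R (STRing R π)))) π := by
    rw [GaPoints.ringMap_comp_SpecMap]
    change _ = A.φ.left.appTop (stFn (algebraMap R (STRing R π) π))
    rw [← sFn_mul_tFn]
    congr 1
    exact (map_mul _ _ _).symm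
  have h₂ : A.φ.left ≫ Spec.map (CommRingCat.ofHom (algebraMap R (STRing R π))) = A.π.left ≫ A.base.hom :=
    (Over.w A.φ).trans (Over.w A.π).symm
  rw [h₁, h₂, ringMap_comp]

variable {S : Scheme.{u}} (h : Spec (CommRingCat.of R) ⟶ S)

/-- The data of an object missing the node. -/
def datOf (A : (stPunc Scheme.fppfPrecoverage R π h).obj) : Dat π S where
  T := (Over.map h).obj A.obj.base
  r := A.obj.base.hom
  Ts := branchOpen A.obj true
  Tt := branchOpen A.obj false
  cover x := by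
    obtain ⟨a, rfl⟩ := pt_surjective A.obj x
    rcases (missesNode_iff A.obj).mp A.property a with ha | ha
    · exact Or.inl ((mem_branchOpen _ true a).mpr ha)
    · exact Or.inr ((mem_branchOpen _ false a).mpr ha)
  inter := branch_inter A.obj

theorem branchOpen_map {A B : Obj R π} (f : A ⟶ B) (i : Bool) (x : A.base.left) :
    x ∈ branchOpen A i ↔ f.base.left x ∈ branchOpen B i := by
  obtain ⟨a, rfl⟩ := pt_surjective A x
  rw [mem_branchOpen, show f.base.left (A.π.left a) = B.π.left (f.top.left a) from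
    (congrArg (fun m : A.P ⟶ B.base => m.left a) f.cart.w).symm, mem_branchOpen,
    show A.φ.left a = B.φ.left (f.top.left a) from (congrArg (fun m : A.P ⟶ STSch R π => m.left a) f.wφ).symm]

theorem isDatHom {A B : (stPunc Scheme.fppfPrecoverage R π h).obj} (f : A ⟶ B) :
    IsDatHom (datOf h A) (datOf h B) ((Over.map h).map f.hom.base) where
  hp := by
    change (𝟙 A.obj.base.left : _ ⟶ _).appTop (ringMap A.obj.base.hom π) =
      f.hom.base.left.appTop (ringMap B.obj.base.hom π)
    rw [← ringMap_comp, ← ringMap_comp, Over.w, Category.id_comp]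
  hs := branchOpen_map f.hom true
  ht := branchOpen_map f.hom false

theorem toBGMap_congr {p : R} {D D' : Dat p S} {f g : D.T ⟶ D'.T} (e : f = g) (hf : IsDatHom D D' f)
    (hg : IsDatHom D D' g) : toBGMap f hf = toBGMap g hg := by subst e; rfl

/-- The functor. -/
def punctFunctor : stPunc Scheme.fppfPrecoverage R π h ⥤ᵇ AlgSt.BG Scheme.fppfPrecoverage (Red.Ga S) where
  toFunctor :=
    { obj := fun A => toBG (datOf h A)
      map := fun f => toBGMap _ (isDatHom h f)
      map_id := fun A => by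
        have e : (Over.map h).map (𝟙 A : A ⟶ A).hom.base = 𝟙 _ := (Over.map h).map_id _
        have h' : IsDatHom (datOf h A) (datOf h A) (𝟙 (datOf h A).T) := e ▸ isDatHom h (𝟙 A)
        exact (toBGMap_congr e _ h').trans (toBGMap_id _ h')
      map_comp := fun {A B C} f g => by
        have e : (Over.map h).map (f ≫ g).hom.base = (Over.map h).map f.hom.base ≫ (Over.map h).map g.hom.base :=
          (Over.map h).map_comp _ _
        have h' : IsDatHom (datOf h A) (datOf h C) ((Over.map h).map f.hom.base ≫ (Over.map h).map g.hom.base) :=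
          e ▸ isDatHom h (f ≫ g)
        exact (toBGMap_congr e _ h').trans
          (toBGMap_comp (D := datOf h A) (D' := datOf h B) (D'' := datOf h C) ((Over.map h).map f.hom.base)
            ((Over.map h).map g.hom.base) (isDatHom h f) (isDatHom h g) h') }
  w := rfl

end Groth.Agent.BGaSLib
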