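import Groth.Prelude.Def_GmAct
import Mathlib.RingTheory.Flat.EquationalCriterion
import Mathlib.RingTheory.MvPolynomial.Basic
import Mathlib.RingTheory.DiscreteValuationRing.Basic

/-!
In `R[s, t]/(s t - p)` the element `p ^ n` stays outside `(s ^ (n+1), t ^ (n+1))` near the node,
also after a flat extension.
-/

set_option autoImplicit false
set_option backward.isDefEq.respectTransparency false
set_option backward.isDefEq.respectTransparency.types false
universe u

namespace Groth.Agent.BGaSLib

open MvPolynomial ThetaS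

variable {R : Type u} [CommRing R] (p : R)

/-- The linear functional `s^i t^j ↦ p^i` for `i = j`, else `0`, modulo `p ^ L`. -/
noncomputable def diag (L : ℕ) : MvPolynomial (Fin 2) R →ₗ[R] R ⧸ Ideal.span {p ^ L} :=
  (basisMonomials (Fin 2) R).constr R fun d => if d 0 = d 1 then Ideal.Quotient.mk _ (p ^ d 0) else 0

theorem diag_monomial (L : ℕ) (d : Fin 2 →₀ ℕ) :
    diag p L (monomial d 1) = if d 0 = d 1 then Ideal.Quotient.mk _ (p ^ d 0) else 0 := by
  have h := Module.Basis.constr_basis (basisMonomials (Fin 2) R) R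
    (fun d => if d 0 = d 1 then (Ideal.Quotient.mk (Ideal.span {p ^ L}) (p ^ d 0)) else 0) d
  simpa [diag, coe_basisMonomials] using h

theorem diag_mul_rel (L : ℕ) (f : MvPolynomial (Fin 2) R) : diag p L (f * (X 0 * X 1 - C p)) = 0 := by
  have h : (diag p L).comp (LinearMap.mulRight R (X 0 * X 1 - C p)) = 0 := by
    refine (basisMonomials (Fin 2) R).ext fun d => ?_
    have e₁ : monomial d (1 : R) * (X 0 * X 1) = monomial (d + Finsupp.single 0 1 + Finsupp.single 1 1) 1 := by
      simp only [X, monomial_mul, one_mul, ← mul_assoc, add_assoc]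
    have e₂ : monomial d (1 : R) * C p = p • monomial d 1 := by rw [mul_comm, C_mul']
    simp only [coe_basisMonomials, LinearMap.comp_apply, LinearMap.mulRight_apply, LinearMap.zero_apply, mul_sub,
      e₁, e₂, map_sub, map_smul, diag_monomial]
    simp only [Finsupp.add_apply, Finsupp.single_apply]
    by_cases hd : d 0 = d 1
    · rw [if_pos hd, if_pos (by simpa using hd), Algebra.smul_def, Ideal.Quotient.algebraMap_eq, ← map_mul,
        sub_eq_zero]
      simp [pow_succ, mul_comm]
    · rw [if_neg hd, if_neg (by simpa using hd), smul_zero, sub_zero]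
  simpa using LinearMap.congr_fun h f

theorem diag_mul_pow (L : ℕ) (i : Fin 2) (f : MvPolynomial (Fin 2) R) : diag p L (f * X i ^ L) = 0 := by
  have h : (diag p L).comp (LinearMap.mulRight R (X i ^ L)) = 0 := by
    refine (basisMonomials (Fin 2) R).ext fun d => ?_
    simp only [coe_basisMonomials, LinearMap.comp_apply, LinearMap.mulRight_apply, LinearMap.zero_apply,
      X_pow_eq_monomial, monomial_mul, one_mul, diag_monomial]
    split_ifs with hd
    · rw [Ideal.Quotient.eq_zero_iff_mem, Ideal.mem_span_singleton]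
      apply pow_dvd_pow
      simp only [Finsupp.add_apply, Finsupp.single_apply] at hd ⊢
      fin_cases i <;> simp at hd ⊢ <;> omega
    · rfl
  simpa using LinearMap.congr_fun h f

theorem diag_congr (L : ℕ) (hL : L ≠ 0) (f : MvPolynomial (Fin 2) R) :
    Ideal.Quotient.factor (Ideal.span_singleton_le_span_singleton.mpr (dvd_pow_self p hL)) (diag p L f) =
      Ideal.Quotient.mk (Ideal.span {p}) (constantCoeff f) := by
  induction f using MvPolynomial.induction_on' with
  | monomial d a =>
    rw [show monomial d a = a • monomial d (1 : R) by rw [smul_monomial, smul_eq_mul, mul_one], map_smul,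
      diag_monomial, Algebra.smul_def, Ideal.Quotient.algebraMap_eq, map_mul, Ideal.Quotient.factor_mk,
      smul_monomial, smul_eq_mul, mul_one, constantCoeff_monomial]
    rcases eq_or_ne d 0 with rfl | hd
    · simp
    · simp only [if_neg hd]
      split_ifs with h
      · rw [Ideal.Quotient.factor_mk, ← map_mul, Ideal.Quotient.mk_eq_mk_iff_sub_mem, sub_zero, Ideal.mem_span_singleton]
        refine (dvd_pow_self p fun h0 => hd ?_).mul_left a
        ext i
        fin_cases i
        · exact h0
        · exact h ▸ h0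
      · simp
  | add f g hf hg => simp only [map_add, hf, hg]

theorem constantCoeff_mem (n : ℕ) (hp : IsRegular p) (c x y : STRing R p)
    (h : c * algebraMap R _ (p ^ n) = x * sFn R p ^ (n + 1) + y * tFn R p ^ (n + 1))
    (F : MvPolynomial (Fin 2) R) (hF : Ideal.Quotient.mk _ F = c) : p ∣ constantCoeff F := by
  obtain ⟨x, rfl⟩ := Ideal.Quotient.mk_surjective x
  obtain ⟨y, rfl⟩ := Ideal.Quotient.mk_surjective y
  subst hF
  have e : algebraMap R (STRing R p) (p ^ n) = Ideal.Quotient.mk _ (C (p ^ n)) := rfl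
  rw [e, ← map_pow, ← map_pow, ← map_mul, ← map_mul, ← map_mul, ← map_add, Ideal.Quotient.mk_eq_mk_iff_sub_mem,
    Ideal.mem_span_singleton'] at h
  obtain ⟨z, hz⟩ := h
  have h₁ := congrArg (diag p (n + 1)) hz
  rw [diag_mul_rel, map_sub, map_add, diag_mul_pow, diag_mul_pow, add_zero, sub_zero, mul_comm, C_mul',
    map_smul] at h₁
  obtain ⟨r, hr⟩ := Ideal.Quotient.mk_surjective (diag p (n + 1) F)
  have h₂ := diag_congr p (n + 1) n.succ_ne_zero F
  rw [← hr, Ideal.Quotient.factor_mk, Ideal.Quotient.mk_eq_mk_iff_sub_mem, Ideal.mem_span_singleton] at h₂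
  rw [← hr, Algebra.smul_def, Ideal.Quotient.algebraMap_eq, ← map_mul, eq_comm, Ideal.Quotient.eq_zero_iff_mem,
    Ideal.mem_span_singleton, pow_succ] at h₁
  obtain ⟨w, hw⟩ := h₁
  have hpr : p ∣ r := ⟨w, (hp.pow n).left (show p ^ n * r = p ^ n * (p * w) by rw [← mul_assoc]; exact hw)⟩
  exact (dvd_sub_comm.mp h₂) |> fun h' => by simpa using dvd_add h' hpr

/-- The node of `R[s, t]/(s t - p)`. -/
noncomputable def nodeMap : STRing R p →+* R ⧸ Ideal.span {p} :=
  (stPt (π := p) (A := R ⧸ Ideal.span {p}) 0 0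
    (by rw [Ideal.Quotient.algebraMap_eq, zero_mul, eq_comm, Ideal.Quotient.eq_zero_iff_mem]
        exact Ideal.mem_span_singleton_self p)).toRingHom

theorem nodeMap_mk (F : MvPolynomial (Fin 2) R) :
    nodeMap p (Ideal.Quotient.mk _ F) = Ideal.Quotient.mk _ (constantCoeff F) := by
  change MvPolynomial.aeval ![0, 0] F = _
  rw [show (![0, 0] : Fin 2 → R ⧸ Ideal.span {p}) = fun _ => 0 by ext i; fin_cases i <;> rfl,
    MvPolynomial.aeval_zero', Ideal.Quotient.algebraMap_eq]

theorem false_of_flat_relation {B : Type u} [CommRing B] [Algebra (STRing R p) B] [Module.Flat (STRing R p) B]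
    (hp : IsRegular p) (q : Ideal B) (hq : q.IsPrime)
    (hnode : Ideal.comap (algebraMap (STRing R p) B) q = RingHom.ker (nodeMap p)) (n : ℕ) (x y : B)
    (h : algebraMap (STRing R p) B (algebraMap R _ (p ^ n)) =
      algebraMap (STRing R p) B (sFn R p ^ (n + 1)) * x + algebraMap (STRing R p) B (tFn R p ^ (n + 1)) * y) :
    False := by
  have hrel : ∑ i : Fin 3, (![algebraMap R (STRing R p) (p ^ n), sFn R p ^ (n + 1), tFn R p ^ (n + 1)] i) •
      (![1, -x, -y] i) = 0 := by
    simp only [Fin.sum_univ_three, Algebra.smul_def]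
    simp only [Matrix.cons_val_zero, Matrix.cons_val_one, Matrix.cons_val_two, Matrix.tail_cons, Matrix.head_cons]
    linear_combination h
  obtain ⟨l, a, z, hz, ha⟩ := Module.Flat.isTrivialRelation_of_sum_smul_eq_zero (R := STRing R p) (M := B) hrel
  have hmem : ∀ j, a 0 j ∈ RingHom.ker (nodeMap p) := fun j => by
    have hj := ha j
    simp only [Fin.sum_univ_three, Matrix.cons_val_zero, Matrix.cons_val_one, Matrix.cons_val_two, Matrix.tail_cons,
      Matrix.head_cons] at hj
    obtain ⟨F, hF⟩ := Ideal.Quotient.mk_surjective (a 0 j)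
    rw [RingHom.mem_ker, ← hF, nodeMap_mk, Ideal.Quotient.eq_zero_iff_mem, Ideal.mem_span_singleton]
    exact constantCoeff_mem p n hp _ (-(a 1 j)) (-(a 2 j)) (by linear_combination hj) F hF
  apply hq.ne_top
  rw [Ideal.eq_top_iff_one]
  rw [show (1 : B) = ∑ j, a 0 j • z j from hz 0]
  refine Ideal.sum_mem q fun j _ => ?_
  rw [Algebra.smul_def]
  refine Ideal.mul_mem_right _ q ?_
  rw [← Ideal.mem_comap, hnode]
  exact hmem j

end Groth.Agent.BGaSLib
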