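import Groth.Agent.BGaSLib.Torsor

/-!
The torsor of `Groth.Agent.BGaSLib.Torsor` as an object of `B G_a`, functorially.
-/

set_option autoImplicit false
set_option backward.isDefEq.respectTransparency false
set_option backward.isDefEq.respectTransparency.types false
universe u

open CategoryTheory CategoryTheory.Limits MonoidalCategory CartesianMonoidalCategory MonObj AlgebraicGeometry Opposite

noncomputable section

namespace Groth.Agent.BGaSLib

open GaPoints (ringMap)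

variable {R : Type u} [CommRing R] {p : R} {S : Scheme.{u}} {D : Dat p S} (E : Rep D)

theorem Rep.isPt_comp {Y : Over S} (x : Y ⟶ E.P) :
    D.IsPt (x ≫ E.π) (x.left.appTop E.a) (x.left.appTop E.b) := E.isPt.comp x

/-- Translation by the additive group. -/
def Rep.act : Red.Ga S ⊗ E.P ⟶ E.P :=
  E.lift _ _ _ ((E.isPt_comp (snd (Red.Ga S) E.P)).translate (Red.gaFn (fst (Red.Ga S) E.P)))

theorem Rep.act_π : E.act ≫ E.π = snd (Red.Ga S) E.P ≫ E.π := E.lift_π _ _ _ _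

theorem Rep.act_spec {Y : Over S} (g : Y ⟶ Red.Ga S) (x : Y ⟶ E.P) :
    (CartesianMonoidalCategory.lift g x ≫ E.act) ≫ E.π = x ≫ E.π ∧
    (CartesianMonoidalCategory.lift g x ≫ E.act).left.appTop E.a =
      x.left.appTop E.a + D.pY (x ≫ E.π) * Red.gaFn g ∧
    (CartesianMonoidalCategory.lift g x ≫ E.act).left.appTop E.b =
      x.left.appTop E.b + Red.gaFn g * (2 * x.left.appTop E.a + 1) + D.pY (x ≫ E.π) * Red.gaFn g ^ 2 := by
  obtain ⟨l, hl⟩ : ∃ l : Y ⟶ Red.Ga S ⊗ E.P, CartesianMonoidalCategory.lift g x = l := ⟨_, rfl⟩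
  have h₁ : l ≫ fst (Red.Ga S) E.P = g := by rw [← hl, lift_fst]
  have h₂ : l ≫ snd (Red.Ga S) E.P = x := by rw [← hl, lift_snd]
  have hg : l.left.appTop (Red.gaFn (fst (Red.Ga S) E.P)) = Red.gaFn g := by
    rw [← GaPoints.gaFn_comp, h₁]
  have hx : ∀ z, l.left.appTop ((snd (Red.Ga S) E.P).left.appTop z) = x.left.appTop z := by
    intro z
    rw [← h₂, Over.comp_left, Scheme.Hom.comp_appTop, CommRingCat.comp_apply]
  have hp : l.left.appTop (D.pY (snd (Red.Ga S) E.P ≫ E.π)) = D.pY (x ≫ E.π) := by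
    rw [← D.pY_comp, ← Category.assoc, h₂]
  rw [hl]
  refine ⟨?_, ?_, ?_⟩
  · rw [Category.assoc, E.act_π, ← Category.assoc, h₂]
  · rw [Over.comp_left, Scheme.Hom.comp_appTop, CommRingCat.comp_apply, Rep.act, E.lift_a]
    simp only [map_add, map_mul, hg, hx, hp]
  · rw [Over.comp_left, Scheme.Hom.comp_appTop, CommRingCat.comp_apply, Rep.act, E.lift_b]
    simp only [map_add, map_mul, map_pow, map_ofNat, map_one, hg, hx, hp]

/-- The action of the additive group. -/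
def Rep.action : AlgGrp.Action (Red.Ga S) E.P where
  act := E.act
  one_act := by
    have e : η[Red.Ga S] ▷ E.P = CartesianMonoidalCategory.lift (1 : 𝟙_ (Over S) ⊗ E.P ⟶ Red.Ga S) (λ_ E.P).hom := by
      apply CartesianMonoidalCategory.hom_ext
      · rw [lift_fst, whiskerRight_fst, Hom.one_def, toUnit_unique (fst _ _) (toUnit _)]
      · rw [lift_snd, whiskerRight_snd, leftUnitor_hom]
    rw [e]
    obtain ⟨h₁, h₂, h₃⟩ := E.act_spec (1 : 𝟙_ (Over S) ⊗ E.P ⟶ Red.Ga S) (λ_ E.P).hom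
    refine E.hom_ext h₁ ?_ ?_
    · rw [h₂, GaPoints.gaFn_one]; ring
    · rw [h₃, GaPoints.gaFn_one]; ring
  mul_act := by
    let G := Red.Ga S
    let g₁ : (G ⊗ G) ⊗ E.P ⟶ G := fst _ _ ≫ fst _ _
    let g₂ : (G ⊗ G) ⊗ E.P ⟶ G := fst _ _ ≫ snd _ _
    let x : (G ⊗ G) ⊗ E.P ⟶ E.P := snd _ _
    have el : μ[G] ▷ E.P = CartesianMonoidalCategory.lift (g₁ * g₂) x := by
      apply CartesianMonoidalCategory.hom_ext
      · rw [lift_fst, whiskerRight_fst, Hom.mul_def, ← comp_lift, lift_fst_snd, Category.comp_id]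
      · rw [lift_snd, whiskerRight_snd]
    have er : (α_ G G E.P).hom ≫ (G ◁ E.act) =
        CartesianMonoidalCategory.lift g₁ (CartesianMonoidalCategory.lift g₂ x ≫ E.act) := by
      apply CartesianMonoidalCategory.hom_ext
      · simp [g₁]
      · simp only [Category.assoc, whiskerLeft_snd, lift_snd]
        rw [← Category.assoc]
        congr 1
        apply CartesianMonoidalCategory.hom_ext <;> simp [g₂, x]
    rw [el, ← Category.assoc, er]
    obtain ⟨p₁, a₁, b₁⟩ := E.act_spec (g₁ * g₂) x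
    obtain ⟨p₂, a₂, b₂⟩ := E.act_spec g₂ x
    obtain ⟨p₃, a₃, b₃⟩ := E.act_spec g₁ (CartesianMonoidalCategory.lift g₂ x ≫ E.act)
    refine E.hom_ext (p₁.trans (p₃.trans p₂).symm) ?_ ?_
    · rw [a₁, a₃, p₂, a₂, GaPoints.gaFn_mul]; ring
    · rw [b₁, b₃, p₂, a₂, b₂, GaPoints.gaFn_mul]; ring

theorem Rep.cart : IsPullback E.action.act (snd (Red.Ga S) E.P) E.π E.π := by
  refine IsPullback.mk' E.act_π ?_ ?_
  · intro Y φ φ' h₁ h₂
    have hφ : φ = CartesianMonoidalCategory.lift (φ ≫ fst _ _) (φ ≫ snd _ _) := by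
      rw [← comp_lift, lift_fst_snd, Category.comp_id]
    have hφ' : φ' = CartesianMonoidalCategory.lift (φ' ≫ fst _ _) (φ ≫ snd _ _) := by
      rw [h₂, ← comp_lift, lift_fst_snd, Category.comp_id]
    change φ ≫ E.act = φ' ≫ E.act at h₁
    rw [hφ, hφ'] at h₁
    obtain ⟨-, a₁, b₁⟩ := E.act_spec (φ ≫ fst _ _) (φ ≫ snd _ _)
    obtain ⟨q₂, a₂, b₂⟩ := E.act_spec (φ' ≫ fst _ _) (φ ≫ snd _ _)
    rw [h₁] at a₁ b₁
    have hpt := E.isPt_comp (CartesianMonoidalCategory.lift (φ' ≫ fst _ _) (φ ≫ snd _ _) ≫ E.act)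
    rw [q₂] at hpt
    have hu := ((E.isPt_comp (φ ≫ snd (Red.Ga S) E.P)).existsUnique_diff hpt).unique ⟨a₁, b₁⟩ ⟨a₂, b₂⟩
    rw [hφ, hφ', GaPoints.gaFn_injective hu]
  · intro Y y x h
    have hy := E.isPt_comp y
    rw [h] at hy
    obtain ⟨c, ⟨hc₁, hc₂⟩, -⟩ := (E.isPt_comp x).existsUnique_diff hy
    obtain ⟨g, rfl⟩ := GaPoints.gaFn_surjective c
    obtain ⟨q, a₁, b₁⟩ := E.act_spec g x
    exact ⟨CartesianMonoidalCategory.lift g x, E.hom_ext (q.trans h.symm) (a₁.trans hc₁.symm) (b₁.trans hc₂.symm),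
      lift_snd _ _⟩

theorem Rep.loc : NonAbH1.IsLocallyTrivialFor Scheme.fppfPrecoverage (Over.mk E.π.left : Over D.T.left) := by
  let U : Bool → D.T.left.Opens := fun i => if i then D.Ts else D.Tt
  refine ⟨Presieve.ofArrows (fun i => (U i).toScheme) (fun i => (U i).ι),
    (Scheme.ofArrows_mem_precoverage_iff (P := @Flat ⊓ @LocallyOfFinitePresentation)).mpr
      ⟨fun x => ?_, fun i => ⟨inferInstance, inferInstance⟩⟩, ?_⟩
  · rcases D.cover x with hx | hx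
    · exact ⟨true, ⟨x, hx⟩, rfl⟩
    · exact ⟨false, ⟨x, hx⟩, rfl⟩
  rintro _ _ ⟨i⟩
  let Y : Over S := Over.mk ((U i).ι ≫ D.T.hom)
  let t : Y ⟶ D.T := Over.homMk (U i).ι rfl
  have hsec : ∃ a b, D.IsPt t a b := by
    rcases i with _ | _
    · refine ⟨-1, 0, by ring, fun y => Or.inr (Or.inr ⟨y.2, ?_⟩)⟩
      rw [map_neg, map_one]; exact neg_ne_zero.mpr one_ne_zero
    · refine ⟨0, 0, by ring, fun y => Or.inr (Or.inl ⟨y.2, ?_⟩)⟩
      rw [zero_add, map_one]; exact one_ne_zero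
  obtain ⟨a, b, hab⟩ := hsec
  exact ⟨(E.lift t a b hab).left, congrArg CommaMorphism.left (E.lift_π t a b hab)⟩

/-- The torsor as an object of `B G_a`. -/
def toBG (D : Dat p S) : AlgSt.QuotObj Scheme.fppfPrecoverage (Red.Ga S) (AlgSt.trivAction (Red.Ga S)) where
  base := D.T
  P := (rep D).P
  act := (rep D).action
  π := (rep D).π
  cart := (rep D).cart
  loc := (rep D).loc
  φ := toUnit _
  eqv := toUnit_unique _ _

/-- A morphism of the data. -/
structure IsDatHom (D D' : Dat p S) (f : D.T ⟶ D'.T) : Prop where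
  hp : D.pY (𝟙 _) = D'.pY f
  hs : ∀ x, x ∈ D.Ts ↔ f.left x ∈ D'.Ts
  ht : ∀ x, x ∈ D.Tt ↔ f.left x ∈ D'.Tt

theorem IsDatHom.isPt {D D' : Dat p S} {f : D.T ⟶ D'.T} (hf : IsDatHom D D' f) {Y : Over S} (t : Y ⟶ D.T)
    (a b : Γ(Y.left, ⊤)) : D.IsPt t a b ↔ D'.IsPt (t ≫ f) a b := by
  have hp : D'.pY (t ≫ f) = D.pY t := by
    rw [D'.pY_comp, ← hf.hp, ← D.pY_comp, Category.comp_id]
  constructor <;> intro h
  · refine ⟨hp ▸ h.rel, fun y => ?_⟩
    rw [hp, show (t ≫ f).left y = f.left (t.left y) by simp, ← hf.hs, ← hf.ht]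
    exact h.mem y
  · refine ⟨hp ▸ h.rel, fun y => ?_⟩
    have := h.mem y
    rw [hp, show (t ≫ f).left y = f.left (t.left y) by simp, ← hf.hs, ← hf.ht] at this
    exact this

/-- The morphism of torsors. -/
def topMap {D D' : Dat p S} (f : D.T ⟶ D'.T) (hf : IsDatHom D D' f) : (rep D).P ⟶ (rep D').P :=
  (rep D').lift ((rep D).π ≫ f) _ _ ((hf.isPt _ _ _).mp (rep D).isPt)

theorem topMap_spec {D D' : Dat p S} (f : D.T ⟶ D'.T) (hf : IsDatHom D D' f) {Y : Over S} (x : Y ⟶ (rep D).P) :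
    (x ≫ topMap f hf) ≫ (rep D').π = (x ≫ (rep D).π) ≫ f ∧
    (x ≫ topMap f hf).left.appTop (rep D').a = x.left.appTop (rep D).a ∧
    (x ≫ topMap f hf).left.appTop (rep D').b = x.left.appTop (rep D).b := by
  refine ⟨?_, ?_, ?_⟩
  · rw [Category.assoc, Category.assoc, topMap, Rep.lift_π]
  · rw [Over.comp_left, Scheme.Hom.comp_appTop, CommRingCat.comp_apply, topMap, Rep.lift_a]
  · rw [Over.comp_left, Scheme.Hom.comp_appTop, CommRingCat.comp_apply, topMap, Rep.lift_b]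

/-- The morphism in `B G_a`. -/
def toBGMap {D D' : Dat p S} (f : D.T ⟶ D'.T) (hf : IsDatHom D D' f) : toBG D ⟶ toBG D' where
  base := f
  top := topMap f hf
  eqv := by
    change (rep D).act ≫ topMap f hf = (Red.Ga S ◁ topMap f hf) ≫ (rep D').act
    have e : Red.Ga S ◁ topMap f hf =
        CartesianMonoidalCategory.lift (fst (Red.Ga S) (rep D).P) (snd (Red.Ga S) (rep D).P ≫ topMap f hf) := by
      apply CartesianMonoidalCategory.hom_ext <;> simp
    obtain ⟨p₁, a₁, b₁⟩ := topMap_spec f hf (rep D).act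
    obtain ⟨p₂, a₂, b₂⟩ := (rep D').act_spec (fst (Red.Ga S) (rep D).P) (snd (Red.Ga S) (rep D).P ≫ topMap f hf)
    obtain ⟨p₃, a₃, b₃⟩ := topMap_spec f hf (snd (Red.Ga S) (rep D).P)
    have hp : D'.pY ((snd (Red.Ga S) (rep D).P ≫ topMap f hf) ≫ (rep D').π) =
        D.pY (snd (Red.Ga S) (rep D).P ≫ (rep D).π) := by
      rw [p₃, D'.pY_comp, ← hf.hp, ← D.pY_comp, Category.comp_id]
    rw [e]
    refine (rep D').hom_ext ?_ ?_ ?_
    · rw [p₁, p₂, p₃, (rep D).act_π]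
    · rw [a₁, a₂, a₃, hp, Rep.act, Rep.lift_a]
    · rw [b₁, b₂, a₃, b₃, hp, Rep.act, Rep.lift_b]
  cart := by
    refine IsPullback.mk' ?_ ?_ ?_
    · have := (topMap_spec f hf (𝟙 _)).1
      simpa [toBG] using this
    · intro Y φ φ' h₁ h₂
      obtain ⟨-, a₁, b₁⟩ := topMap_spec f hf φ
      obtain ⟨-, a₂, b₂⟩ := topMap_spec f hf φ'
      refine (rep D).hom_ext h₂ ?_ ?_
      · rw [← a₁, ← a₂]; exact congrArg (fun m : Y ⟶ (rep D').P => m.left.appTop (rep D').a) h₁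
      · rw [← b₁, ← b₂]; exact congrArg (fun m : Y ⟶ (rep D').P => m.left.appTop (rep D').b) h₁
    · intro Y y t h
      change y ≫ (rep D').π = t ≫ f at h
      have hy := (rep D').isPt_comp y
      rw [h, ← hf.isPt] at hy
      obtain ⟨p₁, a₁, b₁⟩ := topMap_spec f hf ((rep D).lift t _ _ hy)
      refine ⟨(rep D).lift t _ _ hy, (rep D').hom_ext ?_ ?_ ?_, Rep.lift_π _ _ _ _ _⟩
      · exact p₁.trans ((congrArg (· ≫ f) (Rep.lift_π _ _ _ _ _)).trans h.symm)
      · exact a₁.trans (Rep.lift_a _ _ _ _ _)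
      · exact b₁.trans (Rep.lift_b _ _ _ _ _)
  wφ := toUnit_unique _ _

theorem toBGMap_id (D : Dat p S) (hf : IsDatHom D D (𝟙 D.T)) : toBGMap (𝟙 D.T) hf = 𝟙 (toBG D) := by
  refine AlgSt.QuotObj.hom_ext rfl ?_
  change topMap (𝟙 D.T) hf = 𝟙 _
  obtain ⟨p₁, a₁, b₁⟩ := topMap_spec (𝟙 D.T) hf (𝟙 _)
  simp only [Category.id_comp, Category.comp_id] at p₁ a₁ b₁
  exact (rep D).hom_ext (by simpa using p₁) (by simpa using a₁) (by simpa using b₁)

theorem toBGMap_comp {D D' D'' : Dat p S} (f : D.T ⟶ D'.T) (g : D'.T ⟶ D''.T) (hf : IsDatHom D D' f)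
    (hg : IsDatHom D' D'' g) (hfg : IsDatHom D D'' (f ≫ g)) :
    toBGMap (f ≫ g) hfg = toBGMap f hf ≫ toBGMap g hg := by
  refine AlgSt.QuotObj.hom_ext rfl ?_
  change topMap (f ≫ g) hfg = topMap f hf ≫ topMap g hg
  obtain ⟨p₁, a₁, b₁⟩ := topMap_spec g hg (topMap f hf)
  refine (rep D'').hom_ext ?_ ?_ ?_
  · simp [topMap, Rep.lift_π, Rep.lift_π_assoc]
  · rw [a₁, topMap, topMap, Rep.lift_a, Rep.lift_a]
  · rw [b₁, topMap, topMap, Rep.lift_b, Rep.lift_b]

end Groth.Agent.BGaSLib
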