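import Groth.Agent.BGaSLib.NoExt
import Mathlib.RingTheory.PowerSeries.Inverse

/-!
`B G_a` over a field is not S-complete.
-/

set_option autoImplicit false
set_option backward.isDefEq.respectTransparency false
set_option backward.isDefEq.respectTransparency.types false
set_option linter.style.haveILetI false
universe u

open CategoryTheory CategoryTheory.Limits MonoidalCategory CartesianMonoidalCategory MonObj AlgebraicGeometry Opposite

noncomputable section

namespace Groth.Agent.BGaSLib

open GaPoints (ringMap)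
open ThetaS

variable {R : Type u} [CommRing R] {π : R}

theorem mem_branchOpen_quotMap (a : (AlgSt.ofSch (STSch R π)).obj) (i : Bool) (x : a.base.left)
    [Scheme.fppfPrecoverage.{u}.HasIsos] :
    x ∈ branchOpen ((AlgSt.quotMap Scheme.fppfPrecoverage (Gm R) (stAction R π)).obj a) i ↔
      a.sec.down.left x ∈ DSt (branch π i) := by
  obtain ⟨z, hz⟩ := pt_surjective ((AlgSt.quotMap Scheme.fppfPrecoverage (Gm R) (stAction R π)).obj a) x
  rw [← hz, mem_branchOpen]
  change (stAction R π).act.left ((Gm R ◁ a.sec.down).left z) ∈ _ ↔ a.sec.down.left ((snd (Gm R) a.base).left z) ∈ _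
  have e : a.sec.down.left ((snd (Gm R) a.base).left z) =
      (snd (Gm R) (STSch R π)).left ((Gm R ◁ a.sec.down).left z) :=
    (congrArg (fun m : Gm R ⊗ a.base ⟶ STSch R π => m.left z) (whiskerLeft_snd (Gm R) a.sec.down)).symm
  rw [e]
  cases i
  · exact (act_mem_iff _).2
  · exact (act_mem_iff _).1

theorem not_liftsUniquely {S : Scheme.{u}} (h : Spec (CommRingCat.of R) ⟶ S) (hreg : IsRegular π)
    (hprime : (Ideal.span {π}).IsPrime) [Scheme.fppfPrecoverage.{u}.HasIsos] :
    ¬ LiftSq.LiftsUniquely (stIncl Scheme.fppfPrecoverage R π h)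
      (FibCat.toSelf (AlgSt.BG Scheme.fppfPrecoverage (Red.Ga S))) := by
  intro hL
  let X := STSch R π
  let V : X.left.Opens := DSt (sFn R π) ⊔ DSt (tFn R π)
  let X' : Over (Spec (CommRingCat.of R)) := Over.mk (V.ι ≫ X.hom)
  let ι' : X' ⟶ X := Over.homMk V.ι rfl
  let x : (AlgSt.ofSch X).obj := ⟨X, ⟨𝟙 X⟩⟩
  let x' : (AlgSt.ofSch X).obj := ⟨X', ⟨ι'⟩⟩
  let f : x' ⟶ x := ⟨ι', congrArg ULift.up (Category.comp_id ι')⟩
  let Q := AlgSt.quotMap Scheme.fppfPrecoverage (Gm R) (stAction R π)
  have hbr : ∀ (i : Bool) (y : X'.left), y ∈ branchOpen (Q.obj x') i ↔ V.ι y ∈ DSt (branch π i) :=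
    fun i y => mem_branchOpen_quotMap x' i y
  have hmiss : MissesNode (Q.obj x') := (missesNode_iff _).mpr fun a => by
    have h' := hbr true ((Q.obj x').π.left a)
    have h'' := hbr false ((Q.obj x').π.left a)
    rw [mem_branchOpen] at h' h''
    exact (V.ι ((Q.obj x').π.left a) |> fun _ => ((Q.obj x').π.left a).2).imp h'.mpr h''.mpr
  let A : (stPunc Scheme.fppfPrecoverage R π h).obj := ⟨Q.obj x', hmiss⟩
  let F := punctFunctor (π := π) h
  let sq : LiftSq.Sq (stIncl Scheme.fppfPrecoverage R π h)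
      (FibCat.toSelf (AlgSt.BG Scheme.fppfPrecoverage (Red.Ga S))) :=
    ⟨F, FibCat.toSelf (ST Scheme.fppfPrecoverage R π h), Iso.refl _⟩
  obtain ⟨l⟩ := (hL sq).1
  let B' := l.fn.obj (Q.obj x)
  have h₁ : B'.base = (Over.map h).obj X := l.fn.w_obj (Q.obj x)
  let m : toBG (datOf h A) ⟶ B' :=
    l.isoTop.inv.toNatTrans.app A ≫ l.fn.map (Q.map f)
  have hm : m.base ≫ eqToHom h₁ = (Over.map h).map ι' := by
    haveI hf₁ := l.isoTop.inv.isHomLift' A
    have e₁ := IsHomLift.fac' (AlgSt.BG Scheme.fppfPrecoverage (Red.Ga S)).p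
      (𝟙 ((stPunc Scheme.fppfPrecoverage R π h).p.obj A)) (l.isoTop.inv.toNatTrans.app A)
    have e₂ := Functor.congr_hom l.fn.w (Q.map f)
    change (l.isoTop.inv.toNatTrans.app A).base = _ at e₁
    change (l.fn.map (Q.map f)).base = _ at e₂
    change ((l.isoTop.inv.toNatTrans.app A).base ≫ (l.fn.map (Q.map f)).base) ≫ eqToHom h₁ = _
    rw [e₁, e₂]
    simp only [Category.assoc, eqToHom_trans, eqToHom_trans_assoc, Category.id_comp]
    exact Category.id_comp _ |>.trans (Category.comp_id _)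
  have hmem : ∀ y : X'.left, V.ι y ∈ V := fun y => y.2
  haveI : Mono ((Over.map h).map ι') := by
    haveI : Mono ((Over.map h).map ι').left := inferInstanceAs (Mono V.ι)
    exact Over.mono_of_mono_left _
  refine no_extension h hreg hprime (datOf h A) ((Over.map h).map ι') ?_ (hbr true) (hbr false) ?_ B' m
    (eqToIso h₁) hm
  · change ringMap (V.ι ≫ X.hom) π = V.ι.appTop (stFn (algebraMap R (STRing R π) π))
    rw [ringMap_comp]
    congr 1
    exact appTop_toΓ (algebraMap R (STRing R π)) π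
  · intro Y g hg
    have hr : Set.range g.left ⊆ Set.range V.ι := by
      rw [Scheme.Opens.range_ι]
      rintro _ ⟨y, rfl⟩
      exact hg y
    refine ⟨Over.homMk (IsOpenImmersion.lift V.ι g.left hr) ?_, Over.OverMorphism.ext (IsOpenImmersion.lift_fac _ _ _)⟩
    change IsOpenImmersion.lift V.ι g.left hr ≫ (V.ι ≫ X.hom) ≫ h = Y.hom
    rw [Category.assoc, IsOpenImmersion.lift_fac_assoc]
    exact Over.w g

theorem not_isSCompleteOver_BGa (k : Type u) [Field k] :
    ¬ ThetaS.IsSCompleteOver Scheme.fppfPrecoverage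
        (AlgSt.BG Scheme.fppfPrecoverage (Red.Ga (Spec (CommRingCat.of k)))) := by
  intro hS
  haveI : Scheme.fppfPrecoverage.{u}.HasIsos := ⟨fun f _ => Scheme.Hom.singleton_mem_fppfPrecoverage f⟩
  have hirr : Irreducible (PowerSeries.X : PowerSeries k) := PowerSeries.X_irreducible
  exact not_liftsUniquely (Spec.map (CommRingCat.ofHom (PowerSeries.C (R := k))))
    (IsRegular.of_ne_zero hirr.ne_zero) ((Ideal.span_singleton_prime hirr.ne_zero).mpr hirr.prime)
    (hS (PowerSeries k) PowerSeries.X hirr _)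

end Groth.Agent.BGaSLib
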