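import Groth.Agent.BGaSLib.Alg
import Groth.Agent.BGaSLib.Functor

/-!
The functor of `Groth.Agent.BGaSLib.Functor` has no extension over the node.
-/

set_option autoImplicit false
set_option backward.isDefEq.respectTransparency false
set_option backward.isDefEq.respectTransparency.types false
set_option linter.style.haveILetI false
universe u

open CategoryTheory CategoryTheory.Limits MonoidalCategory CartesianMonoidalCategory MonObj AlgebraicGeometry Opposite

noncomputable section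

namespace Groth.Agent.BGaSLib

open GaPoints (ringMap)
open ThetaS

theorem ev_ne_zero_of_isUnit {X : Scheme.{u}} (x : X) {a : Γ(X, ⊤)} (ha : IsUnit a) : ev X x a ≠ 0 :=
  (ha.map (ev X x)).ne_zero

variable {R : Type u} [CommRing R] {p : R} {S : Scheme.{u}}

/-- The inverse of `ΓSpecIso` as a ring map. -/
abbrev toΓ (C : Type u) [CommRing C] : C →+* Γ(Spec (CommRingCat.of C), ⊤) :=
  (Scheme.ΓSpecIso (CommRingCat.of C)).inv.hom

theorem toΓ_surjective {C : Type u} [CommRing C] : Function.Surjective (toΓ C) := fun z =>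
  ⟨(Scheme.ΓSpecIso (CommRingCat.of C)).hom z, (Scheme.ΓSpecIso (CommRingCat.of C)).hom_inv_id_apply z⟩

theorem toΓ_injective {C : Type u} [CommRing C] : Function.Injective (toΓ C) := fun a b e => by
  have := congrArg (Scheme.ΓSpecIso (CommRingCat.of C)).hom e
  simpa using this

theorem appTop_toΓ {C C' : Type u} [CommRing C] [CommRing C'] (ρ : C →+* C') (c : C) :
    (Spec.map (CommRingCat.ofHom ρ)).appTop (toΓ C c) = toΓ C' (ρ c) :=
  (congrArg (fun m => m.hom c) (Scheme.ΓSpecIso_inv_naturality (CommRingCat.ofHom ρ))).symm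

theorem appTop_stFn {C : Type u} [CommRing C] (φ : STRing R p →+* C) (q : STRing R p) :
    (Spec.map (CommRingCat.ofHom φ)).appTop (stFn q) = toΓ C (φ q) := appTop_toΓ φ q

/-- The base of the data over a ring of functions. -/
abbrev testObj (h : Spec (CommRingCat.of R) ⟶ S) {C : Type u} [CommRing C] (φ : STRing R p →+* C) : Over S :=
  Over.mk (Spec.map (CommRingCat.ofHom φ) ≫ ((Over.map h).obj (STSch R p)).hom)

/-- The map to the chart. -/
def testMap (h : Spec (CommRingCat.of R) ⟶ S) {C : Type u} [CommRing C] (φ : STRing R p →+* C) :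
    testObj h φ ⟶ (Over.map h).obj (STSch R p) := Over.homMk (Spec.map (CommRingCat.ofHom φ)) rfl

theorem no_extension (h : Spec (CommRingCat.of R) ⟶ S) (hreg : IsRegular p) (hprime : (Ideal.span {p}).IsPrime)
    (D : Dat p S) (j : D.T ⟶ (Over.map h).obj (STSch R p))
    (hjp : ringMap D.r p = j.left.appTop (stFn (algebraMap R (STRing R p) p)))
    (hjs : ∀ x, x ∈ D.Ts ↔ j.left x ∈ DSt (sFn R p)) (hjt : ∀ x, x ∈ D.Tt ↔ j.left x ∈ DSt (tFn R p))
    [Mono j]
    (hlift : ∀ {Y : Over S} (g : Y ⟶ (Over.map h).obj (STSch R p)),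
      (∀ y, g.left y ∈ DSt (sFn R p) ∨ g.left y ∈ DSt (tFn R p)) → ∃ t : Y ⟶ D.T, t ≫ j = g)
    (B' : AlgSt.QuotObj Scheme.fppfPrecoverage (Red.Ga S) (AlgSt.trivAction (Red.Ga S))) (m : toBG D ⟶ B')
    (e : B'.base ≅ (Over.map h).obj (STSch R p)) (hm : m.base ≫ e.hom = j) : False := by
  let s := sFn R p
  let t := tFn R p
  -- the node
  haveI : (RingHom.ker (nodeMap p)).IsPrime := by
    haveI := hprime
    exact RingHom.ker_isPrime _
  let ν : (STSch R p).left := (⟨RingHom.ker (nodeMap p), inferInstance⟩ : PrimeSpectrum (STRing R p))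
  -- a flat neighbourhood with a point of the torsor
  obtain ⟨Q, hQ, hsec⟩ := B'.loc
  obtain ⟨I, Y, f, rfl⟩ := Q.exists_eq_ofArrows
  obtain ⟨hsurj, hf⟩ :=
    (Scheme.ofArrows_mem_precoverage_iff (P := @Flat ⊓ @LocallyOfFinitePresentation)).mp hQ
  obtain ⟨i, y, hy⟩ := hsurj (e.inv.left ν)
  obtain ⟨σ₀, hσ₀⟩ := hsec _ (Presieve.ofArrows.mk i)
  replace hσ₀ : σ₀ ≫ B'.π.left = f i := hσ₀
  obtain ⟨V, hV, hyV, -⟩ := exists_isAffineOpen_mem_and_subset (X := Y i) (U := ⊤) (x := y) trivial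
  let B : Type u := Γ(Y i, V)
  let e' : B'.base.left ≅ (STSch R p).left := (Over.forget S).mapIso e
  let g : Spec (CommRingCat.of B) ⟶ Spec (CommRingCat.of (STRing R p)) := hV.fromSpec ≫ f i ≫ e'.hom
  obtain ⟨ψ, hψ⟩ : ∃ ψ : CommRingCat.of (STRing R p) ⟶ CommRingCat.of B, Spec.map ψ = g :=
    ⟨_, Spec.map_preimage _⟩
  haveI : Flat (f i) := (hf i).1
  haveI : Flat g := inferInstance
  letI : Algebra (STRing R p) B := ψ.hom.toAlgebra
  haveI : Module.Flat (STRing R p) B := by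
    have h' : Flat (Spec.map ψ) := by rw [hψ]; infer_instance
    exact (HasRingHomProperty.Spec_iff (P := @Flat)).mp h'
  let q : PrimeSpectrum B := hV.primeIdealOf ⟨y, hyV⟩
  have hq : g q = ν := by
    change e'.hom (f i (hV.fromSpec q)) = ν
    rw [hV.fromSpec_primeIdealOf ⟨y, hyV⟩, hy]
    change (e'.inv ≫ e'.hom) ν = ν
    rw [e'.inv_hom_id]; rfl
  have hnode : Ideal.comap (algebraMap (STRing R p) B) q.asIdeal = RingHom.ker (nodeMap p) := by
    have h' : (Spec.map ψ) q = ν := by rw [hψ]; exact hq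
    exact congrArg PrimeSpectrum.asIdeal h'
  -- points of the torsor on which a branch is invertible
  let σ : testObj h ψ.hom ⟶ B'.P := Over.homMk (hV.fromSpec ≫ σ₀) (by
    have h₁ : B'.π.left ≫ B'.base.hom = B'.P.hom := Over.w B'.π
    have h₂ : e.hom.left ≫ ((Over.map h).obj (STSch R p)).hom = B'.base.hom := Over.w e.hom
    change (hV.fromSpec ≫ σ₀) ≫ B'.P.hom = Spec.map ψ ≫ ((Over.map h).obj (STSch R p)).hom
    rw [hψ, ← h₁, Category.assoc, reassoc_of% hσ₀, ← h₂]
    simp [g, e'])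
  have hσ : σ ≫ B'.π = testMap h ψ.hom ≫ e.inv := by
    rw [Iso.eq_comp_inv]
    apply Over.OverMorphism.ext
    change ((hV.fromSpec ≫ σ₀) ≫ B'.π.left) ≫ e.hom.left = Spec.map ψ
    rw [hψ]
    simp only [Category.assoc]
    exact (reassoc_of% hσ₀) e.hom.left |> congrArg (hV.fromSpec ≫ ·)
  let res : ∀ {C : Type u} [CommRing C] (χ : B →+* C), testObj h (χ.comp ψ.hom) ⟶ testObj h ψ.hom :=
    fun {C} _ χ => Over.homMk (Spec.map (CommRingCat.ofHom χ)) (by
      change Spec.map (CommRingCat.ofHom χ) ≫ Spec.map ψ ≫ _ = Spec.map (CommRingCat.ofHom (χ.comp ψ.hom)) ≫ _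
      rw [← Spec.map_comp_assoc]; rfl)
  have hres : ∀ {C : Type u} [CommRing C] (χ : B →+* C),
      res χ ≫ testMap h ψ.hom = testMap h (χ.comp ψ.hom) := by
    intro C _ χ
    apply Over.OverMorphism.ext
    change Spec.map (CommRingCat.ofHom χ) ≫ Spec.map ψ = Spec.map (CommRingCat.ofHom (χ.comp ψ.hom))
    rw [← Spec.map_comp]; rfl
  have hmem : ∀ {C : Type u} [CommRing C] (φ : STRing R p →+* C) (r : STRing R p), IsUnit (φ r) →
      ∀ z, (testMap h φ).left z ∈ DSt r := by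
    intro C _ φ r hr z
    change z ∈ (Spec.map (CommRingCat.ofHom φ)) ⁻¹ᵁ DSt r
    erw [Scheme.preimage_basicOpen_top]
    erw [← ev_ne_zero_iff, appTop_stFn]
    exact ev_ne_zero_of_isUnit z (hr.map _)
  have exPt : ∀ {C : Type u} [CommRing C] (χ : B →+* C), (IsUnit (χ (ψ.hom s)) ∨ IsUnit (χ (ψ.hom t))) →
      ∃ (x : testObj h (χ.comp ψ.hom) ⟶ (rep D).P), x ≫ m.top = res χ ≫ σ ∧
        (x ≫ (rep D).π) ≫ j = testMap h (χ.comp ψ.hom) := by
    intro C _ χ hu
    obtain ⟨tC, htC⟩ := hlift (testMap h (χ.comp ψ.hom)) (fun z => hu.imp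
      (fun hs' => hmem (χ.comp ψ.hom) s hs' z) (fun ht' => hmem (χ.comp ψ.hom) t ht' z))
    have hw : (res χ ≫ σ) ≫ B'.π = tC ≫ m.base := by
      rw [← cancel_mono e.hom, Category.assoc, Category.assoc, reassoc_of% hσ, Iso.inv_hom_id, Category.comp_id, hres,
        Category.assoc, hm, htC]
    refine ⟨m.cart.lift (res χ ≫ σ) tC hw, m.cart.lift_fst _ _ _, ?_⟩
    have h' : m.cart.lift (res χ ≫ σ) tC hw ≫ (rep D).π = tC := m.cart.lift_snd _ _ _
    rw [h', htC]
  have hpY : ∀ {C : Type u} [CommRing C] (φ : STRing R p →+* C) (x : testObj h φ ⟶ (rep D).P),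
      (x ≫ (rep D).π) ≫ j = testMap h φ → D.pY (x ≫ (rep D).π) = toΓ C (φ (algebraMap R _ p)) := by
    intro C _ φ x hx
    have hx' : (x ≫ (rep D).π).left ≫ j.left = Spec.map (CommRingCat.ofHom φ) := congrArg CommaMorphism.left hx
    rw [Dat.pY, hjp, ← appTop_stFn, ← hx', Scheme.Hom.comp_appTop, CommRingCat.comp_apply]
    rfl
  have exS : ∀ {C : Type u} [CommRing C] (χ : B →+* C), IsUnit (χ (ψ.hom s)) →
      ∃ (x : testObj h (χ.comp ψ.hom) ⟶ (rep D).P) (a : C), x ≫ m.top = res χ ≫ σ ∧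
        (x ≫ (rep D).π) ≫ j = testMap h (χ.comp ψ.hom) ∧
        x.left.appTop (rep D).a = toΓ C (χ (ψ.hom (algebraMap R _ p)) * a) := by
    intro C _ χ hu
    obtain ⟨x, hx₁, hx₂⟩ := exPt χ (Or.inl hu)
    have hP := (rep D).isPt_comp x
    obtain ⟨c, ⟨hc, -⟩, -⟩ := existsUnique_scalar (D.pY (x ≫ (rep D).π)) (x.left.appTop (rep D).a + 1)
      (x.left.appTop (rep D).a) (x.left.appTop (rep D).b) (by linear_combination -hP.rel) (fun z => by
        rcases hP.mem z with h' | h' | h'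
        · exact Or.inl h'
        · exact Or.inr h'.2
        · refine Or.inl ?_
          rw [Dat.pY, ev_appTop_ne_zero_iff, ← D.inter]
          refine ⟨(hjs _).mpr ?_, h'.1⟩
          rw [show j.left ((x ≫ (rep D).π).left z) = ((x ≫ (rep D).π) ≫ j).left z from rfl, hx₂]
          exact hmem (χ.comp ψ.hom) s hu z)
    obtain ⟨a, rfl⟩ := toΓ_surjective c
    exact ⟨x, a, hx₁, hx₂, by rw [← hc, hpY _ x hx₂]; exact (map_mul (toΓ C) _ a).symm⟩
  have exT : ∀ {C : Type u} [CommRing C] (χ : B →+* C), IsUnit (χ (ψ.hom t)) →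
      ∃ (x : testObj h (χ.comp ψ.hom) ⟶ (rep D).P) (b : C), x ≫ m.top = res χ ≫ σ ∧
        (x ≫ (rep D).π) ≫ j = testMap h (χ.comp ψ.hom) ∧
        x.left.appTop (rep D).a + 1 = toΓ C (χ (ψ.hom (algebraMap R _ p)) * b) := by
    intro C _ χ hu
    obtain ⟨x, hx₁, hx₂⟩ := exPt χ (Or.inr hu)
    have hP := (rep D).isPt_comp x
    obtain ⟨c, ⟨hc, -⟩, -⟩ := existsUnique_scalar (D.pY (x ≫ (rep D).π)) (x.left.appTop (rep D).a)
      (x.left.appTop (rep D).a + 1) (x.left.appTop (rep D).b) (by linear_combination -hP.rel) (fun z => by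
        rcases hP.mem z with h' | h' | h'
        · exact Or.inl h'
        · refine Or.inl ?_
          rw [Dat.pY, ev_appTop_ne_zero_iff, ← D.inter]
          refine ⟨h'.1, (hjt _).mpr ?_⟩
          rw [show j.left ((x ≫ (rep D).π).left z) = ((x ≫ (rep D).π) ≫ j).left z from rfl, hx₂]
          exact hmem (χ.comp ψ.hom) t hu z
        · exact Or.inr h'.2)
    obtain ⟨b, rfl⟩ := toΓ_surjective c
    exact ⟨x, b, hx₁, hx₂, by rw [← hc, hpY _ x hx₂]; exact (map_mul (toΓ C) _ b).symm⟩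
  -- localisations
  let sB : B := ψ.hom s
  let tB : B := ψ.hom t
  let pB : B := ψ.hom (algebraMap R _ p)
  let Bs := Localization.Away sB
  let Bt := Localization.Away tB
  let Bst := Localization.Away (sB * tB)
  have hst : IsUnit (algebraMap B Bst (sB * tB)) := IsLocalization.Away.algebraMap_isUnit _
  rw [map_mul] at hst
  obtain ⟨hsu, htu⟩ := IsUnit.mul_iff.mp hst
  let ρs : Bs →+* Bst := IsLocalization.Away.lift sB hsu
  let ρt : Bt →+* Bst := IsLocalization.Away.lift tB htu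
  have hρs : ∀ b, ρs (algebraMap B Bs b) = algebraMap B Bst b := fun b => IsLocalization.Away.lift_eq _ _ b
  have hρt : ∀ b, ρt (algebraMap B Bt b) = algebraMap B Bst b := fun b => IsLocalization.Away.lift_eq _ _ b
  obtain ⟨xs, a, hs₁, hs₂, hs₃⟩ := exS (algebraMap B Bs) (IsLocalization.Away.algebraMap_isUnit sB)
  obtain ⟨xt, b, ht₁, ht₂, ht₃⟩ := exT (algebraMap B Bt) (IsLocalization.Away.algebraMap_isUnit tB)
  let rs : testObj h ((algebraMap B Bst).comp ψ.hom) ⟶ testObj h ((algebraMap B Bs).comp ψ.hom) :=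
    Over.homMk (Spec.map (CommRingCat.ofHom ρs)) (by
      change Spec.map _ ≫ Spec.map _ ≫ _ = Spec.map _ ≫ _
      rw [← Spec.map_comp_assoc, ← CommRingCat.ofHom_comp]
      congr 3; exact RingHom.ext fun z => hρs _)
  let rt : testObj h ((algebraMap B Bst).comp ψ.hom) ⟶ testObj h ((algebraMap B Bt).comp ψ.hom) :=
    Over.homMk (Spec.map (CommRingCat.ofHom ρt)) (by
      change Spec.map _ ≫ Spec.map _ ≫ _ = Spec.map _ ≫ _
      rw [← Spec.map_comp_assoc, ← CommRingCat.ofHom_comp]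
      congr 3; exact RingHom.ext fun z => hρt _)
  have hers : rs ≫ res (algebraMap B Bs) = res (algebraMap B Bst) := by
    apply Over.OverMorphism.ext
    change Spec.map _ ≫ Spec.map _ = Spec.map _
    rw [← Spec.map_comp, ← CommRingCat.ofHom_comp]
    congr 2; exact RingHom.ext hρs
  have hert : rt ≫ res (algebraMap B Bt) = res (algebraMap B Bst) := by
    apply Over.OverMorphism.ext
    change Spec.map _ ≫ Spec.map _ = Spec.map _
    rw [← Spec.map_comp, ← CommRingCat.ofHom_comp]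
    congr 2; exact RingHom.ext hρt
  have hxe : rs ≫ xs = rt ≫ xt := by
    have h₁ : (rs ≫ xs) ≫ m.top = (rt ≫ xt) ≫ m.top := by
      rw [Category.assoc, Category.assoc, hs₁, ht₁, reassoc_of% hers, reassoc_of% hert]
    refine m.cart.hom_ext h₁ ?_
    change (rs ≫ xs) ≫ (rep D).π = (rt ≫ xt) ≫ (rep D).π
    rw [← cancel_mono j]
    simp only [Category.assoc] at hs₂ ht₂ ⊢
    rw [hs₂, ht₂, ← hres, ← hres, ← Category.assoc, ← Category.assoc, hers, hert]
  have key : algebraMap B Bst pB * (ρt b - ρs a) = 1 := by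
    apply toΓ_injective
    have e₁ := congrArg rs.left.appTop hs₃
    have e₂ := congrArg rt.left.appTop ht₃
    change _ = (Spec.map (CommRingCat.ofHom ρs)).appTop _ at e₁
    change _ = (Spec.map (CommRingCat.ofHom ρt)).appTop _ at e₂
    rw [appTop_toΓ, map_mul ρs, hρs] at e₁
    rw [appTop_toΓ, map_mul ρt, hρt, map_add, map_one] at e₂
    have e₃ := congrArg (fun k : testObj h ((algebraMap B Bst).comp ψ.hom) ⟶ (rep D).P => k.left.appTop (rep D).a) hxe
    simp only [Over.comp_left, Scheme.Hom.comp_appTop, CommRingCat.comp_apply] at e₃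
    rw [e₁] at e₃
    rw [← e₃] at e₂
    rw [mul_sub, map_sub, map_one]
    linear_combination -e₂
  obtain ⟨N, x, hx⟩ := IsLocalization.Away.surj sB a
  obtain ⟨M, w, hw⟩ := IsLocalization.Away.surj tB b
  have hx' := congrArg ρs hx
  have hw' := congrArg ρt hw
  rw [map_mul, map_pow, hρs, hρs] at hx'
  rw [map_mul, map_pow, hρt, hρt] at hw'
  have hBst : algebraMap B Bst (pB * (w * sB ^ N - x * tB ^ M)) = algebraMap B Bst (tB ^ M * sB ^ N) := by
    simp only [map_mul, map_sub, map_pow, ← hx', ← hw']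
    linear_combination (algebraMap B Bst sB ^ N * algebraMap B Bst tB ^ M) * key
  obtain ⟨⟨_, K, rfl⟩, hK⟩ := (IsLocalization.eq_iff_exists (Submonoid.powers (sB * tB)) Bst).mp hBst
  have hpB : pB = sB * tB := by simp only [pB, sB, tB, s, t]; rw [← map_mul, sFn_mul_tFn]
  simp only [hpB] at hK
  refine false_of_flat_relation p hreg q.asIdeal q.isPrime hnode (K + M + N)
    (tB ^ (K + 1 + N) * w) (-(sB ^ (K + 1 + M) * x)) ?_
  change ψ.hom (algebraMap R _ (p ^ (K + M + N))) = ψ.hom (s ^ (K + M + N + 1)) * _ + ψ.hom (t ^ (K + M + N + 1)) * _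
  rw [map_pow, map_pow, map_pow, map_pow]
  change pB ^ (K + M + N) = sB ^ (K + M + N + 1) * _ + tB ^ (K + M + N + 1) * _
  rw [hpB]
  linear_combination (-(sB ^ M * tB ^ N)) * hK

end Groth.Agent.BGaSLib
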