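import Groth.Agent.GaPoints.Basic
import Groth.Prelude.Def_AlgSt5
import Mathlib.AlgebraicGeometry.Sites.Fpqc
import Mathlib.Topology.Sheaves.SheafCondition.UniqueGluing

/-!
For an element `p` of `R`, the scheme `u² + u = p w` over `R` with the translations `u ↦ u + p c`,
`w ↦ w + c (2 u + 1) + p c²`; over an `R`-scheme with two opens meeting in the locus where `p` is
invertible it cuts out a torsor under the additive group.
-/

set_option autoImplicit false
set_option backward.isDefEq.respectTransparency false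
set_option backward.isDefEq.respectTransparency.types false
universe u

open CategoryTheory CategoryTheory.Limits MonoidalCategory CartesianMonoidalCategory MonObj AlgebraicGeometry Opposite

noncomputable section

namespace Groth.Agent.BGaSLib

open GaPoints (ringMap)

/-- The value of a global function at a point. -/
def ev (X : Scheme.{u}) (x : X) : Γ(X, ⊤) →+* X.residueField x := (X.evaluation ⊤ x trivial).hom

theorem ev_ne_zero_iff {X : Scheme.{u}} (x : X) (a : Γ(X, ⊤)) : ev X x a ≠ 0 ↔ x ∈ X.basicOpen a :=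
  X.evaluation_ne_zero_iff_mem_basicOpen (U := ⊤) x trivial a

theorem ev_appTop_eq_zero_iff {X Y : Scheme.{u}} (f : Y ⟶ X) (y : Y) (a : Γ(X, ⊤)) :
    ev Y y (f.appTop a) = 0 ↔ ev X (f y) a = 0 := by
  have h := Scheme.evaluation_naturality_apply f (V := ⊤) y trivial a
  constructor
  · intro h0
    exact (map_eq_zero (f.residueFieldMap y).hom).mp (h.trans h0)
  · intro h0
    refine h.symm.trans ?_
    change (f.residueFieldMap y).hom (ev X (f y) a) = 0
    rw [h0, map_zero]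

theorem ev_appTop_ne_zero_iff {X Y : Scheme.{u}} (f : Y ⟶ X) (y : Y) (a : Γ(X, ⊤)) :
    ev Y y (f.appTop a) ≠ 0 ↔ ev X (f y) a ≠ 0 := (ev_appTop_eq_zero_iff f y a).not

/-- A section determined by two multiples of it whose factors have no common zero. -/
theorem existsUnique_scalar {X : Scheme.{u}} (p v a b : Γ(X, ⊤)) (h : p * b = v * a)
    (hc : ∀ x : X, ev X x p ≠ 0 ∨ ev X x v ≠ 0) : ∃! c : Γ(X, ⊤), p * c = a ∧ v * c = b := by
  let U : Bool → X.Opens := fun i => if i then X.basicOpen p else X.basicOpen v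
  let i₁ : X.basicOpen p ⟶ (⊤ : X.Opens) := homOfLE le_top
  let i₂ : X.basicOpen v ⟶ (⊤ : X.Opens) := homOfLE le_top
  have hcov : (⊤ : X.Opens) ≤ X.basicOpen p ⊔ X.basicOpen v := fun x _ => by
    rcases hc x with hx | hx
    · exact Or.inl ((ev_ne_zero_iff x p).mp hx)
    · exact Or.inr ((ev_ne_zero_iff x v).mp hx)
  have hp : IsUnit (X.presheaf.map i₁.op p) := X.toRingedSpace.isUnit_res_basicOpen p
  have hv : IsUnit (X.presheaf.map i₂.op v) := X.toRingedSpace.isUnit_res_basicOpen v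
  refine existsUnique_of_exists_of_unique ?_ fun c c' hc₁ hc₂ => ?_
  swap
  · refine X.sheaf.eq_of_locally_eq₂ i₁ i₂ hcov c c' ?_ ?_
    · apply hp.mul_left_cancel
      change X.presheaf.map i₁.op p * X.presheaf.map i₁.op c = X.presheaf.map i₁.op p * X.presheaf.map i₁.op c'
      rw [← map_mul, ← map_mul, hc₁.1, hc₂.1]
    · apply hv.mul_left_cancel
      change X.presheaf.map i₂.op v * X.presheaf.map i₂.op c = X.presheaf.map i₂.op v * X.presheaf.map i₂.op c'
      rw [← map_mul, ← map_mul, hc₁.2, hc₂.2]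
  obtain ⟨c₁, hc₁⟩ : ∃ c, X.presheaf.map i₁.op p * c = X.presheaf.map i₁.op a :=
    ⟨↑hp.unit⁻¹ * X.presheaf.map i₁.op a, by rw [← _root_.mul_assoc, IsUnit.mul_val_inv, _root_.one_mul]⟩
  obtain ⟨c₂, hc₂⟩ : ∃ c, X.presheaf.map i₂.op v * c = X.presheaf.map i₂.op b :=
    ⟨↑hv.unit⁻¹ * X.presheaf.map i₂.op b, by rw [← _root_.mul_assoc, IsUnit.mul_val_inv, _root_.one_mul]⟩
  have hres : X.presheaf.map (homOfLE (inf_le_left : X.basicOpen p ⊓ X.basicOpen v ≤ _)).op c₁ =
      X.presheaf.map (homOfLE (inf_le_right : X.basicOpen p ⊓ X.basicOpen v ≤ _)).op c₂ := by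
    let j : X.basicOpen p ⊓ X.basicOpen v ⟶ (⊤ : X.Opens) := homOfLE le_top
    let j₁ : X.basicOpen p ⊓ X.basicOpen v ⟶ X.basicOpen p := homOfLE inf_le_left
    let j₂ : X.basicOpen p ⊓ X.basicOpen v ⟶ X.basicOpen v := homOfLE inf_le_right
    have e₁ : ∀ z, X.presheaf.map j₁.op (X.presheaf.map i₁.op z) = X.presheaf.map j.op z := fun z => by
      rw [← ConcreteCategory.comp_apply, ← Functor.map_comp]; rfl
    have e₂ : ∀ z, X.presheaf.map j₂.op (X.presheaf.map i₂.op z) = X.presheaf.map j.op z := fun z => by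
      rw [← ConcreteCategory.comp_apply, ← Functor.map_comp]; rfl
    have hp' : IsUnit (X.presheaf.map j.op p) := e₁ p ▸ hp.map _
    have hv' : IsUnit (X.presheaf.map j.op v) := e₂ v ▸ hv.map _
    apply (hp'.mul hv').mul_left_cancel
    have f₁ := congrArg (X.presheaf.map j₁.op) hc₁
    have f₂ := congrArg (X.presheaf.map j₂.op) hc₂
    rw [map_mul, e₁, e₁] at f₁
    rw [map_mul, e₂, e₂] at f₂
    have f₃ := congrArg (X.presheaf.map j.op) h
    rw [map_mul, map_mul] at f₃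
    calc _ = X.presheaf.map j.op v * (X.presheaf.map j.op p * X.presheaf.map j₁.op c₁) := by ring
      _ = X.presheaf.map j.op p * X.presheaf.map j.op b := by rw [f₁, f₃]
      _ = X.presheaf.map j.op p * (X.presheaf.map j.op v * X.presheaf.map j₂.op c₂) := by rw [f₂]
      _ = _ := by ring
  let sf : ∀ i : Bool, Γ(X, U i) := fun i =>
    match i with
    | true => c₁
    | false => c₂
  obtain ⟨c, hcs, -⟩ := X.sheaf.existsUnique_gluing' U ⊤ (fun i => homOfLE le_top)
    (hcov.trans (sup_le (le_iSup U true) (le_iSup U false))) sf (by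
      rintro (_ | _) (_ | _)
      · rfl
      · have := congrArg (X.presheaf.map (homOfLE (le_of_eq (inf_comm (X.basicOpen v) (X.basicOpen p)))).op) hres
        simp only [← ConcreteCategory.comp_apply, ← Functor.map_comp] at this
        exact this.symm
      · exact hres
      · rfl)
  replace hcs : ∀ i, X.presheaf.map (homOfLE (le_top : U i ≤ ⊤)).op c = sf i := hcs
  have hc' : ∃ c' : Γ(X, ⊤), c' = c := ⟨c, rfl⟩
  obtain ⟨c, rfl⟩ := hc'
  refine ⟨c, X.sheaf.eq_of_locally_eq₂ i₁ i₂ hcov _ _ ?_ ?_, X.sheaf.eq_of_locally_eq₂ i₁ i₂ hcov _ _ ?_ ?_⟩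
  · change X.presheaf.map i₁.op (p * c) = X.presheaf.map i₁.op a
    rw [map_mul, show X.presheaf.map i₁.op c = c₁ from hcs true, hc₁]
  · change X.presheaf.map i₂.op (p * c) = X.presheaf.map i₂.op a
    apply hv.mul_left_cancel
    rw [map_mul, show X.presheaf.map i₂.op c = c₂ from hcs false, mul_left_comm, hc₂, ← map_mul, h, map_mul]
  · change X.presheaf.map i₁.op (v * c) = X.presheaf.map i₁.op b
    apply hp.mul_left_cancel
    rw [map_mul, show X.presheaf.map i₁.op c = c₁ from hcs true, mul_left_comm, hc₁, ← map_mul, ← h, map_mul]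
  · change X.presheaf.map i₂.op (v * c) = X.presheaf.map i₂.op b
    rw [map_mul, show X.presheaf.map i₂.op c = c₂ from hcs false, hc₂]

variable {R : Type u} [CommRing R]

/-- The coordinate ring `R[u, w]/(u² + u - p w)`. -/
abbrev ER (p : R) : Type u :=
  MvPolynomial (Fin 2) R ⧸ Ideal.span {(MvPolynomial.X 0 * MvPolynomial.X 0 + MvPolynomial.X 0 -
    MvPolynomial.C p * MvPolynomial.X 1 : MvPolynomial (Fin 2) R)}

variable (p : R)

/-- Its structure map. -/
def sE : Spec (CommRingCat.of (ER p)) ⟶ Spec (CommRingCat.of R) :=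
  Spec.map (CommRingCat.ofHom (algebraMap R (ER p)))

theorem exists_ptE {Y : Scheme.{u}} (f : Y ⟶ Spec (CommRingCat.of R)) (a b : Γ(Y, ⊤))
    (h : a * a + a = ringMap f p * b) :
    ∃ q : Y ⟶ Spec (CommRingCat.of (ER p)), q ≫ sE p = f ∧
      ringMap q (Ideal.Quotient.mk _ (MvPolynomial.X 0)) = a ∧
      ringMap q (Ideal.Quotient.mk _ (MvPolynomial.X 1)) = b := by
  let φ : MvPolynomial (Fin 2) R →+* Γ(Y, ⊤) := MvPolynomial.eval₂Hom (ringMap f) ![a, b]
  let ψ : ER p →+* Γ(Y, ⊤) := Ideal.Quotient.lift _ φ (fun z hz => by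
    obtain ⟨c, rfl⟩ := Ideal.mem_span_singleton'.mp hz
    simp [φ, h])
  obtain ⟨q, hq⟩ := GaPoints.exists_ringMap (R := CommRingCat.of (ER p)) ψ
  refine ⟨q, GaPoints.ringMap_injective (RingHom.ext fun x => ?_), ?_, ?_⟩
  · rw [sE, GaPoints.ringMap_comp_SpecMap, hq]
    change ψ (Ideal.Quotient.mk _ (MvPolynomial.C x)) = _
    simp [ψ, φ]
  · rw [hq]; simp [ψ, φ]
  · rw [hq]; simp [ψ, φ]

theorem ptE_ext {Y : Scheme.{u}} {q q' : Y ⟶ Spec (CommRingCat.of (ER p))} (h : q ≫ sE p = q' ≫ sE p)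
    (hu : ringMap q (Ideal.Quotient.mk _ (MvPolynomial.X 0)) = ringMap q' (Ideal.Quotient.mk _ (MvPolynomial.X 0)))
    (hw : ringMap q (Ideal.Quotient.mk _ (MvPolynomial.X 1)) = ringMap q' (Ideal.Quotient.mk _ (MvPolynomial.X 1))) :
    q = q' := by
  refine GaPoints.ringMap_injective (Ideal.Quotient.ringHom_ext (MvPolynomial.ringHom_ext (fun x => ?_) fun i => ?_))
  · have e := congrArg (fun m => ringMap m x) h
    dsimp only [sE] at e
    rw [GaPoints.ringMap_comp_SpecMap, GaPoints.ringMap_comp_SpecMap] at e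
    exact e
  · fin_cases i
    · exact hu
    · exact hw

theorem ringMap_comp {Y Y' : Scheme.{u}} {A : CommRingCat.{u}} (g : Y' ⟶ Y) (q : Y ⟶ Spec A) (x : A) :
    ringMap (g ≫ q) x = g.appTop (ringMap q x) := by simp [ringMap]

theorem relE {Y : Scheme.{u}} (q : Y ⟶ Spec (CommRingCat.of (ER p))) :
    ringMap q (Ideal.Quotient.mk _ (MvPolynomial.X 0)) * ringMap q (Ideal.Quotient.mk _ (MvPolynomial.X 0)) +
      ringMap q (Ideal.Quotient.mk _ (MvPolynomial.X 0)) =
    ringMap (q ≫ sE p) p * ringMap q (Ideal.Quotient.mk _ (MvPolynomial.X 1)) := by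
  rw [sE, GaPoints.ringMap_comp_SpecMap, ← map_mul, ← map_add]
  let I : Ideal (MvPolynomial (Fin 2) R) := Ideal.span {(MvPolynomial.X 0 * MvPolynomial.X 0 + MvPolynomial.X 0 -
    MvPolynomial.C p * MvPolynomial.X 1)}
  have key : (Ideal.Quotient.mk I (MvPolynomial.X 0) * Ideal.Quotient.mk I (MvPolynomial.X 0) +
      Ideal.Quotient.mk I (MvPolynomial.X 0)) =
      Ideal.Quotient.mk I (MvPolynomial.C p) * Ideal.Quotient.mk I (MvPolynomial.X 1) := by
    rw [← map_mul, ← map_mul, ← map_add]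
    exact (Ideal.Quotient.mk_eq_mk_iff_sub_mem _ _).mpr (Ideal.subset_span rfl)
  exact (congrArg (ringMap q) key).trans (map_mul _ _ _)

/-- An `R`-scheme with two opens meeting in the locus where `p` is invertible. -/
structure Dat (S : Scheme.{u}) where
  T : Over S
  r : T.left ⟶ Spec (CommRingCat.of R)
  Ts : T.left.Opens
  Tt : T.left.Opens
  cover : ∀ x : T.left, x ∈ Ts ∨ x ∈ Tt
  inter : ∀ x : T.left, (x ∈ Ts ∧ x ∈ Tt) ↔ ev T.left x (ringMap r p) ≠ 0

variable {p} {S : Scheme.{u}} (D : Dat p S)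

/-- The pull-back of `p`. -/
def Dat.pY {Y : Over S} (t : Y ⟶ D.T) : Γ(Y.left, ⊤) := t.left.appTop (ringMap D.r p)

/-- The conditions on the coordinates of a point of the torsor. -/
structure Dat.IsPt {Y : Over S} (t : Y ⟶ D.T) (a b : Γ(Y.left, ⊤)) : Prop where
  rel : a * a + a = D.pY t * b
  mem : ∀ y : Y.left, ev _ y (D.pY t) ≠ 0 ∨ (t.left y ∈ D.Ts ∧ ev _ y (a + 1) ≠ 0) ∨
    (t.left y ∈ D.Tt ∧ ev _ y a ≠ 0)

theorem Dat.pY_comp {Y Y' : Over S} (g : Y' ⟶ Y) (t : Y ⟶ D.T) : D.pY (g ≫ t) = g.left.appTop (D.pY t) := by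
  simp [Dat.pY]

theorem Dat.IsPt.comp {D : Dat p S} {Y Y' : Over S} {t : Y ⟶ D.T} {a b : Γ(Y.left, ⊤)} (h : D.IsPt t a b)
    (g : Y' ⟶ Y) : D.IsPt (g ≫ t) (g.left.appTop a) (g.left.appTop b) := by
  refine ⟨by rw [D.pY_comp]; simpa only [map_mul, map_add] using congrArg g.left.appTop h.rel, fun y => ?_⟩
  have e : (g ≫ t).left y = t.left (g.left y) := by simp
  rw [D.pY_comp, e, show g.left.appTop a + 1 = g.left.appTop (a + 1) by simp]
  simp only [ne_eq, ev_appTop_eq_zero_iff]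
  exact h.mem (g.left y)

/-- A representation of the points of the torsor. -/
structure Rep (D : Dat p S) where
  P : Over S
  π : P ⟶ D.T
  a : Γ(P.left, ⊤)
  b : Γ(P.left, ⊤)
  isPt : D.IsPt π a b
  univ : ∀ {Y : Over S} (t : Y ⟶ D.T) (a' b' : Γ(Y.left, ⊤)), D.IsPt t a' b' →
    ∃! g : Y ⟶ P, g ≫ π = t ∧ g.left.appTop a = a' ∧ g.left.appTop b = b'

theorem nonempty_rep : Nonempty (Rep D) := by
  let Z := pullback (sE p) D.r
  let q : Z ⟶ D.T.left := pullback.snd _ _
  let e : Z ⟶ Spec (CommRingCat.of (ER p)) := pullback.fst _ _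
  have he : e ≫ sE p = q ≫ D.r := pullback.condition
  let uZ : Γ(Z, ⊤) := ringMap e (Ideal.Quotient.mk _ (MvPolynomial.X 0))
  let wZ : Γ(Z, ⊤) := ringMap e (Ideal.Quotient.mk _ (MvPolynomial.X 1))
  let pZ : Γ(Z, ⊤) := q.appTop (ringMap D.r p)
  let W : Z.Opens := Z.basicOpen pZ ⊔ ((q ⁻¹ᵁ D.Ts) ⊓ Z.basicOpen (uZ + 1) ⊔ (q ⁻¹ᵁ D.Tt) ⊓ Z.basicOpen uZ)
  have hW : ∀ z : Z, z ∈ W ↔ (ev Z z pZ ≠ 0 ∨ (q z ∈ D.Ts ∧ ev Z z (uZ + 1) ≠ 0) ∨
      (q z ∈ D.Tt ∧ ev Z z uZ ≠ 0)) := fun z => by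
    simp only [ev_ne_zero_iff]
    rfl
  let P : Over S := Over.mk (W.ι ≫ q ≫ D.T.hom)
  let π : P ⟶ D.T := Over.homMk (W.ι ≫ q) (by simp [P])
  refine ⟨⟨P, π, W.ι.appTop uZ, W.ι.appTop wZ, ⟨?_, fun y => ?_⟩, ?_⟩⟩
  · have hp : D.pY π = W.ι.appTop pZ := by
      change (W.ι ≫ q).appTop (ringMap D.r p) = _
      rw [Scheme.Hom.comp_appTop, CommRingCat.comp_apply]
    have := congrArg W.ι.appTop (relE p e)
    rw [he, ringMap_comp, map_add, map_mul, map_mul] at this
    rw [hp]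
    exact this
  · have hp : D.pY π = W.ι.appTop pZ := by
      change (W.ι ≫ q).appTop (ringMap D.r p) = _
      rw [Scheme.Hom.comp_appTop, CommRingCat.comp_apply]
    have h1 := hW (W.ι y)
    rw [← ev_appTop_ne_zero_iff W.ι y pZ, ← ev_appTop_ne_zero_iff W.ι y uZ,
      ← ev_appTop_ne_zero_iff W.ι y (uZ + 1), map_add, map_one] at h1
    rw [hp]
    exact h1.mp y.2
  · intro Y t a' b' h
    obtain ⟨f, hf, hfa, hfb⟩ := exists_ptE p (t.left ≫ D.r) a' b' (by rw [ringMap_comp]; exact h.rel)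
    let g : Y.left ⟶ Z := pullback.lift f t.left hf
    have hg₁ : g ≫ e = f := pullback.lift_fst _ _ _
    have hg₂ : g ≫ q = t.left := pullback.lift_snd _ _ _
    have ha : g.appTop uZ = a' := by rw [← ringMap_comp, hg₁, hfa]
    have hb : g.appTop wZ = b' := by rw [← ringMap_comp, hg₁, hfb]
    have hp : g.appTop pZ = D.pY t := by simp [pZ, Dat.pY, ← hg₂]
    have hr : Set.range g ⊆ Set.range W.ι := by
      rw [Scheme.Opens.range_ι]
      rintro _ ⟨y, rfl⟩
      refine (hW _).mpr ?_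
      rw [show q (g y) = t.left y from by rw [← hg₂]; rfl]
      rw [← ev_appTop_ne_zero_iff g y pZ, ← ev_appTop_ne_zero_iff g y uZ,
        ← ev_appTop_ne_zero_iff g y (uZ + 1), map_add g.appTop.hom, map_one g.appTop.hom, hp, ha]
      exact h.mem y
    let g' : Y.left ⟶ W.toScheme := IsOpenImmersion.lift W.ι g hr
    have hg' : g' ≫ W.ι = g := IsOpenImmersion.lift_fac _ _ _
    refine ⟨Over.homMk g' (by simp [P, reassoc_of% hg', reassoc_of% hg₂]), ⟨?_, ?_, ?_⟩, ?_⟩
    · apply Over.OverMorphism.ext; simp [π, reassoc_of% hg', hg₂]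
    · change g'.appTop (W.ι.appTop uZ) = a'
      rw [← CommRingCat.comp_apply, ← Scheme.Hom.comp_appTop, hg', ha]
    · change g'.appTop (W.ι.appTop wZ) = b'
      rw [← CommRingCat.comp_apply, ← Scheme.Hom.comp_appTop, hg', hb]
    · rintro g₀ ⟨h₁, h₂, h₃⟩
      apply Over.OverMorphism.ext
      rw [← cancel_mono W.ι]
      change g₀.left ≫ W.ι = g' ≫ W.ι
      rw [hg']
      have h₁' : (g₀.left ≫ W.ι) ≫ q = t.left := by
        rw [Category.assoc]; exact congrArg CommaMorphism.left h₁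
      refine pullback.hom_ext ?_ (h₁'.trans hg₂.symm)
      refine ptE_ext p ?_ ?_ ?_
      · change ((g₀.left ≫ W.ι) ≫ e) ≫ sE p = (g ≫ e) ≫ sE p
        rw [Category.assoc, he, ← Category.assoc, h₁', hg₁, hf]
      · change ringMap ((g₀.left ≫ W.ι) ≫ e) _ = ringMap (g ≫ e) _
        rw [ringMap_comp, ringMap_comp, Scheme.Hom.comp_appTop, CommRingCat.comp_apply]
        exact h₂.trans ha.symm
      · change ringMap ((g₀.left ≫ W.ι) ≫ e) _ = ringMap (g ≫ e) _
        rw [ringMap_comp, ringMap_comp, Scheme.Hom.comp_appTop, CommRingCat.comp_apply]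
        exact h₃.trans hb.symm

/-- A chosen representation. -/
def rep : Rep D := (nonempty_rep D).some

/-- The morphism to the torsor with given coordinates. -/
def Rep.lift {D : Dat p S} (E : Rep D) {Y : Over S} (t : Y ⟶ D.T) (a b : Γ(Y.left, ⊤)) (h : D.IsPt t a b) : Y ⟶ E.P :=
  (E.univ t a b h).choose

@[reassoc]
theorem Rep.lift_π {D : Dat p S} (E : Rep D) {Y : Over S} (t : Y ⟶ D.T) (a b : Γ(Y.left, ⊤)) (h : D.IsPt t a b) :
    E.lift t a b h ≫ E.π = t := (E.univ t a b h).choose_spec.1.1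

theorem Rep.lift_a {D : Dat p S} (E : Rep D) {Y : Over S} (t : Y ⟶ D.T) (a b : Γ(Y.left, ⊤)) (h : D.IsPt t a b) :
    (E.lift t a b h).left.appTop E.a = a := (E.univ t a b h).choose_spec.1.2.1

theorem Rep.lift_b {D : Dat p S} (E : Rep D) {Y : Over S} (t : Y ⟶ D.T) (a b : Γ(Y.left, ⊤)) (h : D.IsPt t a b) :
    (E.lift t a b h).left.appTop E.b = b := (E.univ t a b h).choose_spec.1.2.2

theorem Rep.hom_ext {D : Dat p S} (E : Rep D) {Y : Over S} {g g' : Y ⟶ E.P} (hπ : g ≫ E.π = g' ≫ E.π)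
    (ha : g.left.appTop E.a = g'.left.appTop E.a) (hb : g.left.appTop E.b = g'.left.appTop E.b) : g = g' :=
  (E.univ (g' ≫ E.π) _ _ (E.isPt.comp g')).unique ⟨hπ, ha, hb⟩ ⟨rfl, rfl, rfl⟩

variable {D}

theorem Dat.IsPt.translate {Y : Over S} {t : Y ⟶ D.T} {a b : Γ(Y.left, ⊤)} (h : D.IsPt t a b) (c : Γ(Y.left, ⊤)) :
    D.IsPt t (a + D.pY t * c) (b + c * (2 * a + 1) + D.pY t * c ^ 2) := by
  refine ⟨by linear_combination h.rel, fun y => ?_⟩
  rcases eq_or_ne (ev _ y (D.pY t)) 0 with h0 | h0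
  · simpa only [map_add, map_mul, h0, zero_mul, add_zero] using h.mem y
  · exact Or.inl h0

theorem Dat.IsPt.existsUnique_diff {Y : Over S} {t : Y ⟶ D.T} {a b a' b' : Γ(Y.left, ⊤)} (h : D.IsPt t a b)
    (h' : D.IsPt t a' b') :
    ∃! c : Γ(Y.left, ⊤), a' = a + D.pY t * c ∧ b' = b + c * (2 * a + 1) + D.pY t * c ^ 2 := by
  have hc : ∀ y, ev Y.left y (D.pY t) ≠ 0 ∨ ev Y.left y (a + a' + 1) ≠ 0 := by
    intro y
    refine or_iff_not_imp_left.mpr fun h0 => ?_
    rw [not_not] at h0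
    have hex : ¬ (t.left y ∈ D.Ts ∧ t.left y ∈ D.Tt) := by
      rw [D.inter, not_not, ← ev_appTop_eq_zero_iff]
      exact h0
    have r₁ := congrArg (ev Y.left y) h.rel
    have r₂ := congrArg (ev Y.left y) h'.rel
    simp only [map_add, map_mul, h0, zero_mul] at r₁ r₂
    have m₁ := h.mem y
    have m₂ := h'.mem y
    simp only [h0, ne_eq, not_true_eq_false, false_or, map_add, map_one] at m₁ m₂
    simp only [map_add, map_one]
    rcases m₁ with ⟨hs, hu⟩ | ⟨ht, hu⟩
    · rcases m₂ with ⟨-, hu'⟩ | ⟨ht, -⟩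
      · have e₁ : ev Y.left y a = 0 := by
          rcases mul_eq_zero.mp (show ev Y.left y a * (ev Y.left y a + 1) = 0 by linear_combination r₁) with e | e
          exacts [e, absurd e hu]
        have e₂ : ev Y.left y a' = 0 := by
          rcases mul_eq_zero.mp (show ev Y.left y a' * (ev Y.left y a' + 1) = 0 by linear_combination r₂) with e | e
          exacts [e, absurd e hu']
        simp [e₁, e₂]
      · exact absurd ⟨hs, ht⟩ hex
    · rcases m₂ with ⟨hs, -⟩ | ⟨-, hu'⟩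
      · exact absurd ⟨hs, ht⟩ hex
      · have e₁ : ev Y.left y a + 1 = 0 := by
          rcases mul_eq_zero.mp (show ev Y.left y a * (ev Y.left y a + 1) = 0 by linear_combination r₁) with e | e
          exacts [absurd e hu, e]
        have e₂ : ev Y.left y a' + 1 = 0 := by
          rcases mul_eq_zero.mp (show ev Y.left y a' * (ev Y.left y a' + 1) = 0 by linear_combination r₂) with e | e
          exacts [absurd e hu', e]
        intro e
        exact one_ne_zero (show (1 : Y.left.residueField y) = 0 by linear_combination e₁ + e₂ - e)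
  obtain ⟨c, ⟨hc₁, hc₂⟩, hu⟩ := existsUnique_scalar (D.pY t) (a + a' + 1) (a' - a) (b' - b)
    (by linear_combination h.rel - h'.rel) hc
  refine ⟨c, ⟨by linear_combination -hc₁, by linear_combination -hc₂ - c * hc₁⟩, ?_⟩
  rintro c' ⟨e₁, e₂⟩
  exact hu c' ⟨by linear_combination -e₁, by linear_combination -e₂ + c' * e₁⟩

end Groth.Agent.BGaSLib
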